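import Cfsg.Agent.H804.K6.Elt

/-!
# S4876 (`k(B₀) = 6`), `p = 3`: the rows `E₆(q)`, `E₇(q)`, `E₈(q)`, `3 ∤ q` (helper804)
-/

set_option autoImplicit false
set_option linter.unusedSectionVars false

open Cfsg

namespace Cfsg.Agent.H804.K6

open Matrix
open Cfsg.Agent.ChevalleyStructure.SL2Hom (up lo mem_closure_SL2)
open CoxeterSystem Cfsg.Lie Cfsg.Lie.ChevalleyDatum
open Cfsg.Agent.ChevalleyStructure Cfsg.Agent.ChevalleyStructure.Elts Cfsg.Agent.ChevalleyStructure.CoxeterGeom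
  Cfsg.Agent.ChevalleyStructure.CoxeterGeomTypes Cfsg.Agent.ChevalleyStructure.NPerm
open Cfsg.Agent.Tits.Roots Cfsg.Agent.Tits.Core Cfsg.Agent.Nodes Cfsg.Agent.Nodes.Reps Cfsg.Agent.Nodes.BNOf
  Cfsg.Agent.Nodes.RGDChev Cfsg.Agent.Nodes.Bruhat
open Cfsg.Agent.KFacts.RgdField Cfsg.Agent.KFacts.RgdChevCoord Cfsg.Agent.BpExc.TorCent Cfsg.Agent.BpExc.TorChev
open Cfsg.Agent.GpExc.Field Cfsg.Agent.BpExc.Tow Cfsg.Agent.BpExc.TowChev Cfsg.Agent.BpExc.Fr
  Cfsg.Agent.BpExc.LangFr Cfsg.Agent.H795.SetCent Cfsg.Agent.H795.Toral Cfsg.Agent.H795.Core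
  Cfsg.Agent.H795.RootConn Cfsg.Agent.H795.SetTor Cfsg.Agent.H129.TorusChar Cfsg.Agent.H129.TorusUntw
  Cfsg.Agent.BpExc

universe u v

section

variable {D : ChevalleyDatum} {l : ℕ} {M : CoxeterMatrix (Fin l)} (hp : IsType D l M)

theorem rho_M3_ne_one {K : Type} [Field K] {s : ℕ} (hs : s < D.nroots) : rho hp K hs (M3 K) ≠ 1 := by
  intro h
  have h1 : SL2Hom.phi (SL2All.good_of_mem D hp.inList s hs) K (M3 K) = 1 := congrArg Subtype.val h
  have h2 : ∀ g : SpecialLinearGroup (Fin 2) K, (g = 1 ∨ g = -1) → (g : Matrix (Fin 2) (Fin 2) K) 1 0 = 0 := by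
    rintro g (rfl | rfl) <;> simp
  have h3 := h2 _ (OddHalf.LongSL.Chev.phi_eq_one _ h1)
  simp [M3] at h3

/-- the weight of an element commuting with a rank one group -/
theorem not_compl_rho {F : Type} [Field F] [Fintype F] (hF : (3 : F) ≠ 0) {s : ℕ} (hs : s < D.nroots)
    {x : ↥(D.group F)} (hx : ∀ g, Commute (rho hp F hs g) x) :
    ¬ HasNormalPComplement 3 ↥(Subgroup.centralizer ({x} : Set ↥(D.group F))) := by
  obtain ⟨g, hg⟩ := exists_inv F hF
  refine not_compl_cent (v := rho hp F hs (M3 F)) (g := rho hp F hs g) ?_ (rho_M3_ne_one hp hs) ?_ (hx _) (hx _)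
  · rw [← map_pow, M3_pow, map_one]
  · rw [← map_mul, ← map_inv, ← map_mul, hg, map_inv]

include hp in
/-- **The untwisted groups with three lists of orthogonal nodes.** -/
theorem krow_untw {F : Type} [Field F] [Fintype F] (hF : (3 : F) ≠ 0) {d : ℕ} {B : Fin l → Fin l → ℤ}
    (hB : InvC D l d B) (hd : d ≠ 0) (hd1 : d = 1 ∨ d.Prime) (hd5 : ¬ 5 ∣ d) {L₁ L₂ L₃ : List (Fin l)} {i₁ i₂ : Fin l}
    (o1 : Orth D L₁) (o2 : Orth D L₂) (o3 : Orth D L₃)
    (w1 : ∀ j ∈ L₁, orthB D (D.simple i₁) (D.simple j) = true) (w2 : ∀ j ∈ L₂, orthB D (D.simple i₂) (D.simple j) = true)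
    (n1 : NL D l L₁ < NL D l []) (n2 : NL D l L₂ < NL D l L₁) (n3 : NL D l L₃ < NL D l L₂) :
    H61.K6.KRow.{u, 0} 3 ↥(D.group F) := by
  obtain ⟨r, e, hr, hrF, hrk, he, hq, hk⟩ := exists_closure (F := F) rfl
  have hr3 : r ≠ 3 := by
    rintro rfl
    exact hF (by exact_mod_cast CharP.cast_eq_zero F 3)
  have : Fact (Nat.Prime 5) := ⟨Nat.prime_five⟩
  have hset := H795.Untw.setup_untw hp hk (algebraMap F (AlgebraicClosure F)) he hq hB hd hd1 (p := 5) hd5
  have hfin : Finite ↥(D.group F) := inferInstance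
  have key : ∀ {L : List (Fin l)}, Orth D L → uL hp F L ^ 3 = 1 ∧
      (Nat.card ↥(Subgroup.centralizer {uL hp F L})).factorization r = e * NL D l L := fun {L} hL =>
    card_of_uL hp hk hset hr3 hL (emb_uL hp _ L)
  obtain ⟨a1, b1⟩ := key o1
  obtain ⟨a2, b2⟩ := key o2
  obtain ⟨a3, b3⟩ := key o3
  have b0 := (key (L := []) List.Pairwise.nil).2
  have hc1 := not_compl_rho hp hF (simple_lt hp.inList (lt_rank hp i₁)) (x := uL hp F L₁)
    (fun g => comm_prodL hp _ w1 g _)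
  have hc2 := not_compl_rho hp hF (simple_lt hp.inList (lt_rank hp i₂)) (x := uL hp F L₂)
    (fun g => comm_prodL hp _ w2 g _)
  refine krow_of_three he a1 a2 a3 b0 b1 b2 b3 n1 n2 n3 ?_ hc1 hc2
  obtain ⟨g, hg⟩ := exists_inv F hF
  refine not_compl_of_inv (v := rho hp F (simple_lt hp.inList (lt_rank hp i₁)) (M3 F))
    (g := rho hp F (simple_lt hp.inList (lt_rank hp i₁)) g) ?_ (rho_M3_ne_one hp _) ?_
  · rw [← map_pow, M3_pow, map_one]
  · rw [← map_mul, ← map_inv, ← map_mul, hg, map_inv]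

end

theorem isG2 : IsType chevG2 2 CoxeterMatrix.G₂ := by simp [IsType, typeList]
theorem isD4 : IsType chevD4 4 coxeterD4 := by simp [IsType, typeList]
theorem isF4 : IsType chevF4 4 CoxeterMatrix.F₄ := by simp [IsType, typeList]
theorem isE6 : IsType chevE6 6 CoxeterMatrix.E₆ := by simp [IsType, typeList]
theorem isE7 : IsType chevE7 7 CoxeterMatrix.E₇ := by simp [IsType, typeList]
theorem isE8 : IsType chevE8 8 CoxeterMatrix.E₈ := by simp [IsType, typeList]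

/-- **`E₆(q)`.** -/
theorem krow_E6 {F : Type} [Field F] [Fintype F] (hF : (3 : F) ≠ 0) : H61.K6.KRow.{u, 0} 3 ↥(chevE6.group F) :=
  krow_untw isE6 hF invC_E6 (by norm_num) (Or.inr Nat.prime_three) (by norm_num) (L₁ := [1]) (L₂ := [1, 4])
    (L₃ := [1, 2, 4]) (i₁ := 4) (i₂ := 2) (by decide +kernel) (by decide +kernel) (by decide +kernel)
    (by decide +kernel) (by decide +kernel) (by decide +kernel) (by decide +kernel) (by decide +kernel)

/-- **`E₇(q)`.** -/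
theorem krow_E7 {F : Type} [Field F] [Fintype F] (hF : (3 : F) ≠ 0) : H61.K6.KRow.{u, 0} 3 ↥(chevE7.group F) :=
  krow_untw isE7 hF invC_E7 (by norm_num) (Or.inr Nat.prime_two) (by norm_num) (L₁ := [1]) (L₂ := [1, 4])
    (L₃ := [1, 2, 4]) (i₁ := 4) (i₂ := 2) (by decide +kernel) (by decide +kernel) (by decide +kernel)
    (by decide +kernel) (by decide +kernel) (by decide +kernel) (by decide +kernel) (by decide +kernel)

/-- **`E₈(q)`.** -/
theorem krow_E8 {F : Type} [Field F] [Fintype F] (hF : (3 : F) ≠ 0) : H61.K6.KRow.{u, 0} 3 ↥(chevE8.group F) :=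
  krow_untw isE8 hF invC_E8 (by norm_num) (Or.inl rfl) (by norm_num) (L₁ := [1]) (L₂ := [1, 4])
    (L₃ := [1, 2, 4]) (i₁ := 4) (i₂ := 2) (by decide +kernel) (by decide +kernel) (by decide +kernel)
    (by decide +kernel) (by decide +kernel) (by decide +kernel) (by decide +kernel) (by decide +kernel)

end Cfsg.Agent.H804.K6
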