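import Cfsg.Agent.H61.K6.CritD
import Cfsg.Agent.H649.Transport
import Cfsg.Agent.Characters.GaloisBasic
import Cfsg.Agent.Characters.SchurBound
import Cfsg.Agent.SporadicA.M11CharSimple

/-!
# S4876 (`k(B₀) = 6`): a criterion for `l(B₀(G)) ≥ 3` (helper804)

`wtGe_three`: let `s`, `a` be members of `B₀(X)`, `s` vanishing on the nontrivial `r`-elements, `U` an `r`-subgroup,
`a` faithful and `|Out X| a(1) < |U| - 1`. Then `WtGe p (1 : X) 3`: a combination of the restrictions of two members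
of `B₀(G)` is constant on `U - 1`, a small character is not.
-/

set_option autoImplicit false
set_option linter.unusedSectionVars false

open Cfsg
open scoped ComplexConjugate

namespace Cfsg.Agent.H804.K6

open Cfsg.Agent.Characters.Core Cfsg.Agent.Characters.Clifford

universe u v

section core

variable {G : Type u} [Group G] [Finite G]

/-- The restriction of an irreducible character to a normal subgroup. -/
theorem exists_orbit (K : Subgroup G) [K.Normal] [Fintype K] (χ : IrrCharacter G) (a : IrrCharacter K)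
    (h : classInner (fun k : K => (χ : G → ℂ) k) (a : K → ℂ) ≠ 0) :
    ∃ (O : Finset (IrrCharacter K)) (e : ℂ), e ≠ 0 ∧ O.card ≤ K.index ∧ a ∈ O ∧
      (∀ ψ ∈ O, ∃ g : G, (ψ : K → ℂ) = (a : K → ℂ) ∘ (MulAut.conjNormal g : MulAut K)) ∧
      ∀ k : K, (χ : G → ℂ) k = e * ∑ ψ ∈ O, (ψ : K → ℂ) k := by
  classical
  have : Fintype G := Fintype.ofFinite G
  have : Finite (IrrCharacter K) := finite_irr
  have : Fintype (IrrCharacter K) := Fintype.ofFinite _
  let F : G → IrrCharacter K := fun g => ⟨(a : K → ℂ) ∘ (MulAut.conjNormal g : MulAut K), isIrr_conjNormal a.2 g⟩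
  have hF : ∀ g : G, ∀ k : K, F (g * k) = F g := by
    intro g k
    apply Subtype.ext
    funext n
    have h1 := isIrr_isClassFunction (F g).2 n k
    have h2 : (F (g * k) : K → ℂ) n = (F g : K → ℂ) (k * n * k⁻¹) := by
      show (a : K → ℂ) _ = (a : K → ℂ) _
      refine congrArg _ (Subtype.ext ?_)
      simp only [MulAut.conjNormal_apply, Subgroup.coe_mul, Subgroup.coe_inv]
      group
    rw [h2]
    exact h1
  let F' : G ⧸ K → IrrCharacter K := Quotient.lift F (by
    intro g g' hg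
    have h1 : g⁻¹ * g' ∈ K := QuotientGroup.leftRel_apply.1 hg
    have h2 := hF g ⟨_, h1⟩
    rw [← h2]
    congr 1
    show g * (g⁻¹ * g') = g'
    group)
  have hF' : ∀ g : G, F' (QuotientGroup.mk g) = F g := fun g => rfl
  have : Fintype (G ⧸ K) := Fintype.ofFinite _
  set e := classInner (fun k : K => (χ : G → ℂ) k) (a : K → ℂ) with he
  refine ⟨Finset.univ.image F', e, h, ?_, ?_, ?_, ?_⟩
  · refine Finset.card_image_le.trans ?_
    rw [Finset.card_univ, ← Nat.card_eq_fintype_card, Subgroup.index_eq_card]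
  · refine Finset.mem_image.2 ⟨QuotientGroup.mk 1, Finset.mem_univ _, ?_⟩
    rw [hF']
    apply Subtype.ext
    show (a : K → ℂ) ∘ (MulAut.conjNormal (1 : G) : MulAut K) = a
    rw [map_one]
    rfl
  · intro ψ hψ
    obtain ⟨x, -, rfl⟩ := Finset.mem_image.1 hψ
    obtain ⟨g, rfl⟩ := QuotientGroup.mk_surjective x
    exact ⟨g, rfl⟩
  · intro k
    have hcl : IsClassFunction K (fun k : K => (χ : G → ℂ) k) :=
      isCharacter_isClassFunction (isCharacter_restrict K (isIrr_isCharacter χ.2))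
    have h1 := congrFun (classFunction_eq_sum hcl) k
    have h2 : (∑ ψ : IrrCharacter K, classInner (fun k : K => (χ : G → ℂ) k) (ψ : K → ℂ) • (ψ : K → ℂ)) k =
        ∑ ψ : IrrCharacter K, classInner (fun k : K => (χ : G → ℂ) k) (ψ : K → ℂ) * (ψ : K → ℂ) k := by
      rw [Finset.sum_apply]
      rfl
    have h3 : (χ : G → ℂ) k = ∑ ψ : IrrCharacter K, classInner (fun k : K => (χ : G → ℂ) k) (ψ : K → ℂ) * (ψ : K → ℂ) k :=
      h1.trans h2
    rw [h3, Finset.mul_sum]
    symm
    rw [← Finset.sum_subset (Finset.subset_univ (Finset.univ.image F'))]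
    · refine Finset.sum_congr rfl fun ψ hψ => ?_
      obtain ⟨x, -, rfl⟩ := Finset.mem_image.1 hψ
      obtain ⟨g, rfl⟩ := QuotientGroup.mk_surjective x
      rw [hF']
      congr 1
      exact (classInner_restrict_conjNormal (isIrr_isClassFunction χ.2) (a : K → ℂ) g).symm
    · intro ψ _ hψ
      have h4 : classInner (fun k : K => (χ : G → ℂ) k) (ψ : K → ℂ) = 0 := by
        by_contra hne
        obtain ⟨g, hg⟩ := exists_conj_of_constituents K χ.2 a.2 ψ.2 h hne
        apply hψ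
        refine Finset.mem_image.2 ⟨QuotientGroup.mk g, Finset.mem_univ _, ?_⟩
        rw [hF']
        exact Subtype.ext hg.symm
      rw [h4, zero_mul]

/-- The members of the orbit have the degree of `a`. -/
theorem sum_orbit_one (K : Subgroup G) [K.Normal] {a : IrrCharacter K} {O : Finset (IrrCharacter K)}
    (hO : ∀ ψ ∈ O, ∃ g : G, (ψ : K → ℂ) = (a : K → ℂ) ∘ (MulAut.conjNormal g : MulAut K)) {n : ℕ}
    (hn : (a : K → ℂ) 1 = n) : ∑ ψ ∈ O, (ψ : K → ℂ) 1 = ((O.card * n : ℕ) : ℂ) := by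
  have h1 : ∀ ψ ∈ O, (ψ : K → ℂ) 1 = n := by
    intro ψ hψ
    obtain ⟨g, hg⟩ := hO ψ hψ
    rw [hg, Function.comp_apply, map_one, hn]
  rw [Finset.sum_congr rfl h1, Finset.sum_const, nsmul_eq_mul]
  push_cast
  rfl

/-- **The counting argument**: a sum of characters of small degree is not constant on `U - 1`. -/
theorem exists_ne {K : Type v} [Group K] [Finite K] {O : Finset (IrrCharacter K)} {a : IrrCharacter K} (ha : a ∈ O)
    (U : Subgroup K) (hker : ∀ u ∈ U, u ≠ 1 → (a : K → ℂ) u ≠ (a : K → ℂ) 1) {D : ℕ}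
    (hD : ∑ ψ ∈ O, (ψ : K → ℂ) 1 = D) (hlt : D + 1 < Nat.card U) :
    ∃ u ∈ U, u ≠ 1 ∧ ∃ v ∈ U, v ≠ 1 ∧ ∑ ψ ∈ O, (ψ : K → ℂ) u ≠ ∑ ψ ∈ O, (ψ : K → ℂ) v := by
  classical
  by_contra hcon
  push Not at hcon
  have : Fintype U := Fintype.ofFinite U
  obtain ⟨u, hu, hu1⟩ : ∃ u ∈ U, u ≠ 1 := by
    by_contra h
    push Not at h
    have h1 : U = ⊥ := by
      rw [eq_bot_iff]
      intro x hx
      exact h x hx
    rw [h1, Subgroup.card_bot] at hlt
    omega
  have hchar : IsCharacter K (fun k => ∑ ψ ∈ O, (ψ : K → ℂ) k) := by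
    have h1 : IsCharacter K (∑ ψ ∈ O, (ψ : K → ℂ)) := isCharacter_sum O fun ψ _ => isIrr_isCharacter ψ.2
    have h2 : (∑ ψ ∈ O, (ψ : K → ℂ)) = fun k => ∑ ψ ∈ O, (ψ : K → ℂ) k := by
      funext k
      rw [Finset.sum_apply]
    rwa [h2] at h1
  set v : ℂ := ∑ ψ ∈ O, (ψ : K → ℂ) u with hv
  obtain ⟨m, hm⟩ := classInner_isNat (isCharacter_comp U.subtype hchar) (isCharacter_one (G := U))
  rw [classInner_def] at hm
  have hsum : ∑ x : U, (∑ ψ ∈ O, (ψ : K → ℂ) (U.subtype x)) * conj ((1 : U → ℂ) x) =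
      D + (Nat.card U - 1 : ℕ) * v := by
    have h1 : ∀ x : U, (∑ ψ ∈ O, (ψ : K → ℂ) (U.subtype x)) * conj ((1 : U → ℂ) x) =
        if x = 1 then (D : ℂ) else v := by
      intro x
      rw [Pi.one_apply, map_one, mul_one]
      split_ifs with hx
      · rw [hx, map_one, hD]
      · exact hcon x x.2 (fun h => hx (Subtype.ext h)) u hu hu1
    rw [Finset.sum_congr rfl fun x _ => h1 x, Finset.sum_ite, Finset.sum_const, Finset.sum_const]
    have h2 : (Finset.univ.filter fun x : U => x = 1).card = 1 := by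
      rw [Finset.filter_eq' Finset.univ (1 : U), if_pos (Finset.mem_univ _), Finset.card_singleton]
    have h3 : (Finset.univ.filter fun x : U => ¬ x = 1).card = Nat.card U - 1 := by
      rw [Finset.filter_not, Finset.card_sdiff_of_subset (Finset.filter_subset _ _), h2, Finset.card_univ,
        Nat.card_eq_fintype_card]
    rw [h2, h3, one_smul, nsmul_eq_mul]
  have hN0 : (Nat.card U : ℂ) ≠ 0 := by exact_mod_cast (Nat.card_pos (α := U)).ne'
  have hm' : (D : ℂ) + (Nat.card U - 1 : ℕ) * v = Nat.card U * m := by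
    have h1 : (Nat.card U : ℂ)⁻¹ * ∑ x : U, (∑ ψ ∈ O, (ψ : K → ℂ) (U.subtype x)) * conj ((1 : U → ℂ) x) = m := hm
    rw [hsum] at h1
    rw [← h1]
    field_simp
  -- `v` is an integer
  have hN1 : ((Nat.card U - 1 : ℕ) : ℂ) ≠ 0 := by
    have : Nat.card U - 1 ≠ 0 := by omega
    exact_mod_cast this
  obtain ⟨z, hz⟩ : ∃ z : ℤ, v = z := by
    refine Characters.GaloisBasic.exists_int_of_isIntegral (Characters.GaloisBasic.isIntegral_apply hchar u) ?_
    refine ⟨((Nat.card U : ℚ) * m - D) / (Nat.card U - 1 : ℕ), ?_⟩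
    push_cast
    rw [eq_div_iff hN1]
    linear_combination hm'
  have hzD : z ≤ D := by
    have h1 := Characters.SchurBound.norm_le hchar (n := D) hD u
    have h2 : ‖(z : ℂ)‖ ≤ D := by rw [← hz]; exact h1
    rw [Complex.norm_intCast] at h2
    have h3 : (z : ℝ) ≤ D := (le_abs_self _).trans h2
    exact_mod_cast h3
  have hz' : (D : ℤ) + ((Nat.card U : ℤ) - 1) * z = Nat.card U * m := by
    rw [hz, Nat.cast_sub (by omega)] at hm'
    exact_mod_cast hm'
  have hzeq : z = D := by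
    have hNp : (0 : ℤ) < Nat.card U := by exact_mod_cast Nat.card_pos
    have hlt' : (D : ℤ) + 1 < Nat.card U := by exact_mod_cast hlt
    have hm0 : (0 : ℤ) ≤ m := Int.natCast_nonneg m
    obtain ⟨s, hs⟩ : ∃ s : ℤ, s = (D - z) - D + m := ⟨_, rfl⟩
    have h1 : (D : ℤ) - z = Nat.card U * s := by rw [hs]; linear_combination hz'
    have hs0 : 0 ≤ s := by
      by_contra h
      push Not at h
      nlinarith
    have hs1 : s = 0 := by
      by_contra h
      have h2 : 1 ≤ s := by omega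
      nlinarith
    rw [hs1] at h1
    linarith
  -- so `u` is in the kernel
  obtain ⟨n, -, hn⟩ := isIrr_apply_one a.2
  apply hker u hu hu1
  have hre : ∀ ψ ∈ O, ((ψ : K → ℂ) u).re ≤ ((ψ : K → ℂ) 1).re := by
    intro ψ _
    obtain ⟨k, -, hk⟩ := isIrr_apply_one ψ.2
    have h1 := Characters.SchurBound.norm_le (isIrr_isCharacter ψ.2) hk u
    rw [hk, Complex.natCast_re]
    exact (Complex.re_le_norm _).trans h1
  have hsre : ∑ ψ ∈ O, ((ψ : K → ℂ) u).re = ∑ ψ ∈ O, ((ψ : K → ℂ) 1).re := by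
    rw [← Complex.re_sum, ← Complex.re_sum, hD, ← hv, hz, hzeq]
    simp
  have hae := (Finset.sum_eq_sum_iff_of_le hre).1 hsre a ha
  have hna := Characters.SchurBound.norm_le (isIrr_isCharacter a.2) hn u
  rw [hn, Complex.natCast_re] at hae
  rw [hn]
  apply Complex.ext
  · rw [hae, Complex.natCast_re]
  · rw [Complex.natCast_im]
    have h1 := Complex.sq_norm ((a : K → ℂ) u)
    rw [Complex.normSq_apply, hae] at h1
    have h2 : ‖(a : K → ℂ) u‖ ^ 2 ≤ (n : ℝ) ^ 2 := pow_le_pow_left₀ (norm_nonneg _) hna 2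
    nlinarith [sq_nonneg ((a : K → ℂ) u).im]

theorem pRegularPart_of {p : ℕ} {f : G → ℂ} {g : G} (hg : ¬ p ∣ orderOf g) : pRegularPart p f g = f g := by
  unfold pRegularPart
  exact if_pos hg

/-- **`l(B₀(G)) ≥ 3`.** -/
theorem three_le {p : ℕ} [Fact p.Prime] {M : Ideal AlgInt} (hM : IsPModular p M) (K : Subgroup G) [K.Normal]
    {s a : IrrCharacter K} (hs : s ∈ principalBlock M K) (ha : a ∈ principalBlock M K) {r : ℕ} (hr : r.Prime)
    (hrp : r ≠ p) (hs0 : ∀ k : K, k ≠ 1 → (∃ j, k ^ r ^ j = 1) → (s : K → ℂ) k = 0)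
    (U : Subgroup K) (hU : ∀ u ∈ U, ∃ j, u ^ r ^ j = 1)
    (hker : ∀ u ∈ U, u ≠ 1 → (a : K → ℂ) u ≠ (a : K → ℂ) 1) {n : ℕ} (hn : (a : K → ℂ) 1 = n)
    (hdeg : K.index * n + 1 < Nat.card U) : 3 ≤ blockRank p (principalBlock M G) := by
  classical
  have := Fintype.ofFinite G
  have := Fintype.ofFinite K
  obtain ⟨P⟩ : Nonempty (Sylow p G) := inferInstance
  have hPN : (P : Subgroup G) ≤ Subgroup.normalizer (K : Set G) := by
    rw [Subgroup.normalizer_eq_top]
    exact le_top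
  obtain ⟨χ, hχ, hχc⟩ := H656.OverPrincipal.exists_over hM K P hPN s hs
  obtain ⟨ψ, hψ, hψc⟩ := H656.OverPrincipal.exists_over hM K P hPN a ha
  obtain ⟨O, e, he, -, hsO, hO, hχr⟩ := exists_orbit K χ s hχc
  obtain ⟨O', e', he', hO'c, haO', hO', hψr⟩ := exists_orbit K ψ a hψc
  -- the elements of `U` are `p`-regular
  have hreg : ∀ u ∈ U, ¬ p ∣ orderOf ((u : K) : G) := by
    intro u hu hd
    obtain ⟨j, hj⟩ := hU u hu
    rw [Subgroup.orderOf_coe] at hd
    have h1 := hd.trans (orderOf_dvd_of_pow_eq_one hj)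
    exact hrp ((Nat.prime_dvd_prime_iff_eq Fact.out hr).1 ((Fact.out : p.Prime).dvd_of_dvd_pow h1)).symm
  have hχu : ∀ u ∈ U, u ≠ 1 → (χ : G → ℂ) (u : K) = 0 := by
    intro u hu hu1
    rw [hχr, Finset.sum_eq_zero, mul_zero]
    intro φ hφ
    obtain ⟨g, hg⟩ := hO φ hφ
    rw [hg, Function.comp_apply]
    apply hs0
    · intro h
      exact hu1 ((map_eq_one_iff _ (MulAut.conjNormal g : MulAut K).injective).1 h)
    · obtain ⟨j, hj⟩ := hU u hu
      exact ⟨j, by rw [← map_pow, hj, map_one]⟩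
  obtain ⟨u, hu, hu1, v, hv, hv1, huv⟩ := exists_ne haO' U hker (sum_orbit_one K hO' hn)
    (lt_of_le_of_lt (Nat.add_le_add_right (Nat.mul_le_mul_right n hO'c) 1) hdeg)
  have hψuv : (ψ : G → ℂ) (u : K) ≠ (ψ : G → ℂ) (v : K) := by
    rw [hψr, hψr]
    exact fun h => huv (mul_left_cancel₀ he' h)
  have hχ1 : (χ : G → ℂ) ((1 : K) : G) ≠ 0 := by
    rw [Subgroup.coe_one]
    exact isIrr_apply_one_ne_zero χ.2
  -- the three functions
  set S := Submodule.span ℂ ((fun χ : IrrCharacter G => pRegularPart p (χ : G → ℂ)) '' principalBlock M G) with hS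
  have hMp : M.IsPrime := hM.2.1.isPrime
  have hone : (⟨fun _ => 1, Blocks.Basic.isIrrCharacter_one⟩ : IrrCharacter G) ∈ principalBlock M G :=
    Blocks.Basic.sameBlock_refl _
  have hmem : ∀ φ : IrrCharacter G, φ ∈ principalBlock M G → pRegularPart p (φ : G → ℂ) ∈ S := fun φ hφ =>
    Submodule.subset_span ⟨φ, hφ, rfl⟩
  let w : Fin 3 → S := ![⟨_, hmem _ hone⟩, ⟨_, hmem _ hχ⟩, ⟨_, hmem _ hψ⟩]
  have hw : LinearIndependent ℂ w := by
    rw [Fintype.linearIndependent_iff]
    intro c hc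
    have h1 : ∀ g : G, ¬ p ∣ orderOf g → c 0 + c 1 * (χ : G → ℂ) g + c 2 * (ψ : G → ℂ) g = 0 := by
      intro g hg
      have h2 := congrFun (congrArg Subtype.val hc) g
      rw [Fin.sum_univ_three] at h2
      have h3 : c 0 * pRegularPart p (fun _ => (1 : ℂ)) g + c 1 * pRegularPart p (χ : G → ℂ) g +
        c 2 * pRegularPart p (ψ : G → ℂ) g = 0 := h2
      rw [pRegularPart_of hg, pRegularPart_of hg, pRegularPart_of hg, mul_one] at h3
      exact h3
    have e1 := h1 _ (hreg u hu)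
    have e2 := h1 _ (hreg v hv)
    have e3 := h1 _ (hreg 1 (one_mem U))
    rw [hχu u hu hu1] at e1
    rw [hχu v hv hv1] at e2
    have c2 : c 2 = 0 := by
      have h4 : c 2 * ((ψ : G → ℂ) (u : K) - (ψ : G → ℂ) (v : K)) = 0 := by linear_combination e1 - e2
      exact (mul_eq_zero.1 h4).resolve_right (sub_ne_zero.2 hψuv)
    have c0 : c 0 = 0 := by
      rw [c2] at e1
      linear_combination e1
    have c1 : c 1 = 0 := by
      rw [c2, c0] at e3
      have h4 : c 1 * (χ : G → ℂ) ((1 : K) : G) = 0 := by linear_combination e3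
      exact (mul_eq_zero.1 h4).resolve_right hχ1
    intro i
    fin_cases i
    · exact c0
    · exact c1
    · exact c2
  have h3 := hw.fintype_card_le_finrank
  rw [Fintype.card_fin] at h3
  exact h3

end core

/-- the index of the normal subgroup divides `|Out X|` -/
theorem index_le_out {G : Type u} [Group G] [Finite G] (K : Subgroup G) [hK : K.Normal]
    (hc : Subgroup.centralizer (K : Set G) = ⊥) {X : Type v} [Group X] [Finite X] (f : X ≃* K) :
    K.index ≤ Nat.card (Out X) := by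
  let Φ : G →* MulAut X := (MulAut.congr f.symm).toMonoidHom.comp MulAut.conjNormal
  have hΦ : ∀ (g : G) (x : X), ((f (Φ g x) : K) : G) = g * (f x : K) * g⁻¹ := by
    intro g x
    show ((f (f.symm (MulAut.conjNormal g (f x))) : K) : G) = _
    rw [f.apply_symm_apply, MulAut.conjNormal_apply]
  let Ψ : G →* Out X := (QuotientGroup.mk' (Inn X)).comp Φ
  have hker : Ψ.ker ≤ K := by
    intro g hg
    rw [MonoidHom.mem_ker, MonoidHom.comp_apply, QuotientGroup.mk'_apply, QuotientGroup.eq_one_iff] at hg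
    obtain ⟨s, hs⟩ := hg
    have h1 : ((f s : K) : G)⁻¹ * g ∈ Subgroup.centralizer (K : Set G) := by
      rw [Subgroup.mem_centralizer_iff]
      intro k hk
      obtain ⟨t, ht⟩ := f.surjective ⟨k, hk⟩
      have ht' : ((f t : K) : G) = k := by rw [ht]
      have h2 := hΦ g t
      rw [← hs, MulAut.conj_apply, map_mul, map_mul, map_inv, Subgroup.coe_mul, Subgroup.coe_mul, Subgroup.coe_inv,
        ht'] at h2
      have h3 : k * (((f s : K) : G)⁻¹ * g) = ((f s : K) : G)⁻¹ * (((f s : K) : G) * k * ((f s : K) : G)⁻¹) * g := by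
        group
      rw [h3, h2]
      group
    rw [hc, Subgroup.mem_bot, inv_mul_eq_one] at h1
    rw [← h1]
    exact (f s).2
  have hfin : Finite (Out X) := by
    have : Finite (MulAut X) := inferInstance
    exact Quotient.finite _
  have h1 : Ψ.ker.index ≤ Nat.card (Out X) := by
    rw [Subgroup.index_ker]
    exact Nat.card_le_card_of_injective _ Subtype.val_injective
  refine le_trans (Nat.le_of_dvd ?_ (Subgroup.index_dvd_of_le hker)) h1
  exact Nat.pos_of_ne_zero Subgroup.index_ne_zero_of_finite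

/-- **The criterion `l(B₀(G)) ≥ 3`.** -/
theorem wtGe_three {p : ℕ} {X : Type v} [Group X] [Finite X] [IsSimpleGroup X] {r : ℕ} (hr : r.Prime) (hrp : r ≠ p)
    (U : Subgroup X) (hU : IsPGroup r U)
    (h : ∀ M : Ideal AlgInt, IsPModular p M → ∃ s ∈ principalBlock M X, ∃ a ∈ principalBlock M X,
      (∀ x : X, x ≠ 1 → (∃ j, x ^ r ^ j = 1) → (s : X → ℂ) x = 0) ∧ (a : X → ℂ) ≠ (fun _ => (1 : ℂ)) ∧
      ∃ n : ℕ, (a : X → ℂ) 1 = n ∧ Nat.card (Out X) * n + 1 < Nat.card U) :
    H61.K6.WtGe.{u, v} p (1 : X) 3 := by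
  intro M G _ _ K f hS
  have : Fact p.Prime := ⟨hS.prime⟩
  have := hS.normal
  obtain ⟨s, hs, a, ha, hs0, ha1, n, hn, hlt⟩ := h M hS.modular
  have h1 : ((f 1 : K) : G) = 1 := by rw [map_one]; rfl
  have e : ↥(Subgroup.centralizer ({((f 1 : K) : G)} : Set G)) ≃* G := by
    refine (MulEquiv.subgroupCongr ?_).trans Subgroup.topEquiv
    rw [h1, eq_top_iff]
    intro g _
    rw [Subgroup.mem_centralizer_singleton_iff, mul_one, one_mul]
  have h2 : blockRank p (principalBlock M ↥(Subgroup.centralizer ({((f 1 : K) : G)} : Set G))) =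
      blockRank p (principalBlock M G) := by
    rw [← H649.blkMap_principalBlock e, H649.blockRank_blkMap]
  rw [h2]
  have hpow : ∀ (x : X) (j : ℕ), f x ^ r ^ j = 1 → x ^ r ^ j = 1 := by
    intro x j hx
    apply f.injective
    rw [map_pow, hx, map_one]
  refine three_le hS.modular K (H61.K6.tw_mem f.symm hs) (H61.K6.tw_mem f.symm ha) hr hrp ?_
    (U.map f.toMonoidHom) ?_ ?_ (n := n) ?_ ?_
  · rintro k hk ⟨j, hj⟩
    rw [H61.K6.tw_apply]
    refine hs0 _ (fun h => hk ?_) ⟨j, by rw [← map_pow, hj, map_one]⟩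
    exact (map_eq_one_iff f.symm f.symm.injective).1 h
  · rintro _ ⟨u, hu, rfl⟩
    obtain ⟨j, hj⟩ := hU ⟨u, hu⟩
    exact ⟨j, by
      have h3 : u ^ r ^ j = 1 := congrArg Subtype.val hj
      show (f u) ^ r ^ j = 1
      rw [← map_pow, h3, map_one]⟩
  · rintro _ ⟨u, hu, rfl⟩ hu1 hcon
    have h3 : (a : X → ℂ) u = (a : X → ℂ) 1 := by
      have h4 : (H61.K6.tw f.symm a : K → ℂ) (f u) = (H61.K6.tw f.symm a : K → ℂ) 1 := hcon
      rwa [H61.K6.tw_apply, H61.K6.tw_apply, f.symm_apply_apply, map_one] at h4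
    refine ha1 (SporadicA.M11CharSimple.eq_one_of_apply_eq a.2 (g := u) (fun h => hu1 ?_) h3)
    rw [h]
    exact map_one f
  · rw [H61.K6.tw_apply, map_one]
    exact hn
  · have h3 : Nat.card ↥(U.map f.toMonoidHom) = Nat.card U :=
      Subgroup.card_map_of_injective f.injective
    rw [h3]
    exact lt_of_le_of_lt (Nat.add_le_add_right (Nat.mul_le_mul_right n (index_le_out K hS.cent f)) 1) hlt

end Cfsg.Agent.H804.K6
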