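import Cfsg.Agent.H804.K6.RowE
import Cfsg.Agent.H795.Tw

/-!
# S4876 (`k(B₀) = 6`), `p = 3`: the row `²E₆(q)`, `3 ∤ q` (helper804)
-/

set_option autoImplicit false
set_option linter.unusedSectionVars false

open Cfsg

namespace Cfsg.Agent.H804.K6

open Matrix
open Cfsg.Agent.ChevalleyStructure.SL2Hom (up lo mem_closure_SL2)
open CoxeterSystem Cfsg.Lie Cfsg.Lie.ChevalleyDatum
open Cfsg.Agent.ChevalleyStructure Cfsg.Agent.ChevalleyStructure.Elts Cfsg.Agent.ChevalleyStructure.CoxeterGeom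
  Cfsg.Agent.ChevalleyStructure.CoxeterGeomTypes Cfsg.Agent.ChevalleyStructure.NPerm
open Cfsg.Agent.Tits.Roots Cfsg.Agent.Tits.Core Cfsg.Agent.Nodes Cfsg.Agent.Nodes.Reps Cfsg.Agent.Nodes.BNOf
  Cfsg.Agent.Nodes.RGDChev Cfsg.Agent.Nodes.Bruhat
open Cfsg.Agent.KFacts.RgdField Cfsg.Agent.KFacts.RgdChevCoord Cfsg.Agent.BpExc.TorCent Cfsg.Agent.BpExc.TorChev
open Cfsg.Agent.GpExc.Field Cfsg.Agent.BpExc.Tow Cfsg.Agent.BpExc.TowChev Cfsg.Agent.BpExc.Fr
  Cfsg.Agent.BpExc.LangFr Cfsg.Agent.H795.SetCent Cfsg.Agent.H795.Toral Cfsg.Agent.H795.Core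
  Cfsg.Agent.H795.RootConn Cfsg.Agent.H795.SetTor Cfsg.Agent.H129.TorusChar Cfsg.Agent.H129.TorusUntw
  Cfsg.Agent.BpExc

universe u v

/-- homomorphisms of `SL₂` over the prime field into a subgroup -/
theorem mem_of_gen {r : ℕ} [Fact r.Prime] {Y : Type*} [Group Y] {T : Subgroup Y}
    (φ : SpecialLinearGroup (Fin 2) (ZMod r) →* Y) (h1 : ∀ t, φ (up t) ∈ T) (h2 : ∀ t, φ (lo t) ∈ T)
    (g : SpecialLinearGroup (Fin 2) (ZMod r)) : φ g ∈ T := by
  have h3 : g ∈ T.comap φ := by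
    refine (Subgroup.closure_le _).2 ?_ (mem_closure_SL2 g)
    rintro x (⟨t, rfl⟩ | ⟨t, rfl⟩)
    · exact h1 t
    · exact h2 t
  exact h3

theorem map_up {F K : Type} [Field F] [Field K] (f : F →+* K) (t : F) :
    SpecialLinearGroup.map f (up t) = up (f t) := by
  apply Subtype.ext
  rw [SpecialLinearGroup.map_apply_coe]
  ext i j
  fin_cases i <;> fin_cases j <;> simp [up]

theorem map_lo {F K : Type} [Field F] [Field K] (f : F →+* K) (t : F) :
    SpecialLinearGroup.map f (lo t) = lo (f t) := by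
  apply Subtype.ext
  rw [SpecialLinearGroup.map_apply_coe]
  ext i j
  fin_cases i <;> fin_cases j <;> simp [lo]

section six

variable {K : Type} [Field K] [Fintype K] {q r n : ℕ} [Fact r.Prime] [CharP K r]

theorem word_one {t : K} (ht : t ^ q = t) {s : ℕ} (hs : s ∈ [e6p2, e6m2, e6p4, e6m4]) :
    xG isE6.inList s t ∈ twistedE6 K q := by
  refine Subgroup.subset_closure ⟨[(s, t)], Or.inl ⟨t, ht, s, hs, rfl⟩, ?_⟩
  rw [coe_xG]
  simp [wordMat]

theorem word_two (t : K) {a b : ℕ} (hs : (a, b) ∈ [(e6p1, e6p6), (e6m1, e6m6), (e6p3, e6p5), (e6m3, e6m5)]) :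
    xG isE6.inList a t * xG isE6.inList b (t ^ q) ∈ twistedE6 K q := by
  refine Subgroup.subset_closure ⟨[(a, t), (b, t ^ q)], Or.inr ⟨t, (a, b), hs, rfl⟩, ?_⟩
  rw [Units.val_mul, coe_xG, coe_xG]
  simp [wordMat]

/-- the prime field -/
noncomputable abbrev iot (K : Type) [Field K] (r : ℕ) [Fact r.Prime] [CharP K r] : ZMod r →+* K :=
  ZMod.castHom (dvd_refl r) K

theorem iot_pow (hn : q = r ^ n) (t : ZMod r) : (iot K r t) ^ q = iot K r t := by
  rw [← map_pow, hn, ZMod.pow_card_pow]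

theorem simp6 : chevE6.simple 1 = 46 ∧ chevE6.simple 2 = 42 ∧ chevE6.simple 4 = 37 ∧ chevE6.neg 46 = 25 ∧
    chevE6.neg 42 = 29 ∧ chevE6.neg 37 = 34 := by decide +kernel

theorem orth24 : Orth chevE6 ([2, 4] : List (Fin 6)) := by decide +kernel
theorem orth1 : Orth chevE6 ([1] : List (Fin 6)) := by decide +kernel
theorem orth124 : Orth chevE6 ([1, 2, 4] : List (Fin 6)) := by decide +kernel

/-- the rank one group of the node `p₂` in `²E₆(q)` -/
theorem mem_one (hn : q = r ^ n) (g : SpecialLinearGroup (Fin 2) (ZMod r)) :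
    ((PL isE6 orth1 (SpecialLinearGroup.map (iot K r) g) : ↥(chevE6.group K)) : GL chevE6.Idx K) ∈ twistedE6 K q := by
  refine mem_of_gen (T := twistedE6 K q) (((chevE6.group K).subtype.comp (PL isE6 orth1)).comp
    (SpecialLinearGroup.map (iot K r))) (fun t => ?_) (fun t => ?_) g
  · have h1 : (((chevE6.group K).subtype.comp (PL isE6 orth1)).comp (SpecialLinearGroup.map (iot K r))) (up t) =
        xG isE6.inList (chevE6.simple 1) (iot K r t) := by
      rw [MonoidHom.comp_apply, map_up, MonoidHom.comp_apply, PL_apply]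
      show ((List.prod [rho isE6 K _ (up (iot K r t))] : ↥(chevE6.group K)) : GL chevE6.Idx K) = _
      rw [List.prod_singleton, rho_up]
      rfl
    rw [h1, simp6.1]
    exact word_one (iot_pow hn t) (by simp [e6p2])
  · have h1 : (((chevE6.group K).subtype.comp (PL isE6 orth1)).comp (SpecialLinearGroup.map (iot K r))) (lo t) =
        xG isE6.inList (chevE6.neg (chevE6.simple 1)) (iot K r t) := by
      rw [MonoidHom.comp_apply, map_lo, MonoidHom.comp_apply, PL_apply]
      show ((List.prod [rho isE6 K _ (lo (iot K r t))] : ↥(chevE6.group K)) : GL chevE6.Idx K) = _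
      rw [List.prod_singleton, rho_lo]
      rfl
    rw [h1, simp6.1, simp6.2.2.2.1]
    exact word_one (iot_pow hn t) (by simp [e6m2])

/-- the diagonal of the nodes `p₃`, `p₅` in `²E₆(q)` -/
theorem mem_two (hn : q = r ^ n) (g : SpecialLinearGroup (Fin 2) (ZMod r)) :
    ((PL isE6 orth24 (SpecialLinearGroup.map (iot K r) g) : ↥(chevE6.group K)) : GL chevE6.Idx K) ∈ twistedE6 K q := by
  refine mem_of_gen (T := twistedE6 K q) (((chevE6.group K).subtype.comp (PL isE6 orth24)).comp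
    (SpecialLinearGroup.map (iot K r))) (fun t => ?_) (fun t => ?_) g
  · have h1 : (((chevE6.group K).subtype.comp (PL isE6 orth24)).comp (SpecialLinearGroup.map (iot K r))) (up t) =
        xG isE6.inList (chevE6.simple 2) (iot K r t) * xG isE6.inList (chevE6.simple 4) (iot K r t) := by
      rw [MonoidHom.comp_apply, map_up, MonoidHom.comp_apply, PL_apply]
      show ((List.prod [rho isE6 K _ (up (iot K r t)), rho isE6 K _ (up (iot K r t))] : ↥(chevE6.group K)) :
        GL chevE6.Idx K) = _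
      rw [List.prod_cons, List.prod_singleton, rho_up, rho_up]
      rfl
    rw [h1, simp6.2.1, simp6.2.2.1]
    nth_rw 2 [← iot_pow (K := K) hn t]
    exact word_two _ (by simp [e6p3, e6p5])
  · have h1 : (((chevE6.group K).subtype.comp (PL isE6 orth24)).comp (SpecialLinearGroup.map (iot K r))) (lo t) =
        xG isE6.inList (chevE6.neg (chevE6.simple 2)) (iot K r t) *
          xG isE6.inList (chevE6.neg (chevE6.simple 4)) (iot K r t) := by
      rw [MonoidHom.comp_apply, map_lo, MonoidHom.comp_apply, PL_apply]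
      show ((List.prod [rho isE6 K _ (lo (iot K r t)), rho isE6 K _ (lo (iot K r t))] : ↥(chevE6.group K)) :
        GL chevE6.Idx K) = _
      rw [List.prod_cons, List.prod_singleton, rho_lo, rho_lo]
      rfl
    rw [h1, simp6.2.1, simp6.2.2.1, simp6.2.2.2.2.1, simp6.2.2.2.2.2]
    nth_rw 2 [← iot_pow (K := K) hn t]
    exact word_two _ (by simp [e6m3, e6m5])

/-- **`²E₆(q)`.** -/
theorem krow_2E6 (h3 : (3 : K) ≠ 0) (hq : IsPrimePow q) (hK : Fintype.card K = q ^ 2) :
    H61.K6.KRow.{u, 0} 3 ↥(twistedE6 K q) := by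
  obtain ⟨r, n, hr, hrF, hrk, hn0, hn, hk⟩ := H795.Tw.exists_closure_q two_ne_zero hq hK
  have hr3 : r ≠ 3 := by
    rintro rfl
    exact h3 (by exact_mod_cast CharP.cast_eq_zero K 3)
  have : Fact (Nat.Prime 5) := ⟨Nat.prime_five⟩
  have hset := H795.Tw.setup_six (algebraMap K (AlgebraicClosure K)) r hk hn0 hn hK (p := 5) (by norm_num)
  have hfin : Finite ↥(twistedE6 K q) := inferInstance
  let φ₁ : SpecialLinearGroup (Fin 2) (ZMod r) →* ↥(twistedE6 K q) :=
    (((chevE6.group K).subtype.comp (PL isE6 orth1)).comp (SpecialLinearGroup.map (iot K r))).codRestrict _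
      (mem_one hn)
  let φ₂ : SpecialLinearGroup (Fin 2) (ZMod r) →* ↥(twistedE6 K q) :=
    (((chevE6.group K).subtype.comp (PL isE6 orth24)).comp (SpecialLinearGroup.map (iot K r))).codRestrict _
      (mem_two hn)
  have hcomm : ∀ a b, Commute (φ₁ a) (φ₂ b) := by
    intro a b
    have h1 : Commute (prodL isE6 K [1] (SpecialLinearGroup.map (iot K r) a))
        (prodL isE6 K [2, 4] (SpecialLinearGroup.map (iot K r) b)) := by
      have h2 := comm_prodL isE6 (simple_lt isE6.inList (lt_rank isE6 1)) (L := [2, 4]) (by decide +kernel)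
        (SpecialLinearGroup.map (iot K r) a) (SpecialLinearGroup.map (iot K r) b)
      have h3 : prodL isE6 K [1] (SpecialLinearGroup.map (iot K r) a) =
        rho isE6 K (simple_lt isE6.inList (lt_rank isE6 1)) (SpecialLinearGroup.map (iot K r) a) :=
        List.prod_singleton
      rw [h3]
      exact h2
    exact Subtype.ext (congrArg (fun z : ↥(chevE6.group K) => (z : GL chevE6.Idx K)) h1.eq)
  have hM1 : H720.TwFr.em6 q (algebraMap K (AlgebraicClosure K)) (φ₁ (M3 (ZMod r))) =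
      uL isE6 (AlgebraicClosure K) [1] := by
    rw [← emb_uL isE6 (algebraMap K (AlgebraicClosure K)) [1]]
    have h1 : uL isE6 K [1] = PL isE6 orth1 (SpecialLinearGroup.map (iot K r) (M3 (ZMod r))) := by
      rw [map_M3]; rfl
    rw [h1]
    rfl
  have hM2 : H720.TwFr.em6 q (algebraMap K (AlgebraicClosure K)) (φ₂ (M3 (ZMod r))) =
      uL isE6 (AlgebraicClosure K) [2, 4] := by
    rw [← emb_uL isE6 (algebraMap K (AlgebraicClosure K)) [2, 4]]
    have h1 : uL isE6 K [2, 4] = PL isE6 orth24 (SpecialLinearGroup.map (iot K r) (M3 (ZMod r))) := by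
      rw [map_M3]; rfl
    rw [h1]
    rfl
  have hM3 : H720.TwFr.em6 q (algebraMap K (AlgebraicClosure K)) (φ₁ (M3 (ZMod r)) * φ₂ (M3 (ZMod r))) =
      uL isE6 (AlgebraicClosure K) [1, 2, 4] := by
    rw [map_mul, hM1, hM2]
    show List.prod [_] * List.prod [_, _] = List.prod [_, _, _]
    rw [List.prod_singleton, ← List.prod_cons]
  obtain ⟨-, b0⟩ := card_of_uL isE6 hk hset hr3 (x := 1) (L := []) List.Pairwise.nil (by rw [map_one]; rfl)
  obtain ⟨a1, b1⟩ := card_of_uL isE6 hk hset hr3 orth1 hM1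
  obtain ⟨a2, b2⟩ := card_of_uL isE6 hk hset hr3 orth24 hM2
  obtain ⟨a3, b3⟩ := card_of_uL isE6 hk hset hr3 orth124 hM3
  have n1 : NL chevE6 6 [1] < NL chevE6 6 [] := by decide +kernel
  have n2 : NL chevE6 6 [2, 4] < NL chevE6 6 [1] := by decide +kernel
  have n3 : NL chevE6 6 [1, 2, 4] < NL chevE6 6 [2, 4] := by decide +kernel
  have hz3 : (3 : ZMod r) ≠ 0 := by
    intro h
    have h1 := (ZMod.natCast_eq_zero_iff 3 r).1 (by exact_mod_cast h)
    exact hr3 ((Nat.prime_dvd_prime_iff_eq Fact.out Nat.prime_three).1 h1)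
  obtain ⟨g, hg⟩ := exists_inv (ZMod r) hz3
  have e1 : φ₁ (M3 (ZMod r)) ≠ 1 := by
    intro h
    rw [h, b0] at b1
    have := Nat.eq_of_mul_eq_mul_left hn0 b1
    omega
  have e2 : φ₂ (M3 (ZMod r)) ≠ 1 := by
    intro h
    rw [h, b0] at b2
    have := Nat.eq_of_mul_eq_mul_left hn0 b2
    omega
  have g1 : φ₁ g * φ₁ (M3 (ZMod r)) * (φ₁ g)⁻¹ = (φ₁ (M3 (ZMod r)))⁻¹ := by
    rw [← map_mul, ← map_inv, ← map_mul, hg, map_inv]
  have g2 : φ₂ g * φ₂ (M3 (ZMod r)) * (φ₂ g)⁻¹ = (φ₂ (M3 (ZMod r)))⁻¹ := by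
    rw [← map_mul, ← map_inv, ← map_mul, hg, map_inv]
  exact krow_of_three hn0 a1 a2 a3 b0 b1 b2 b3 n1 n2 n3 (not_compl_of_inv a1 e1 g1)
    (not_compl_cent a2 e2 g2 (hcomm _ _).eq.symm (hcomm _ _).eq.symm)
    (not_compl_cent a1 e1 g1 (hcomm _ _).eq (hcomm _ _).eq)

end six

end Cfsg.Agent.H804.K6
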