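import Cfsg.Agent.H80.K6.Crit
import Cfsg.Agent.H799.PB.RowLy

/-!
# S4876 (`k(B₀) = 6`): the Lyons group, `p = 5` (helper804)

The character of degree `1534500 = 2² · 3² · 5³ · 11 · 31` is in the principal 5-block: all others have degree divisible by
`5 ^ 5`.
-/

set_option autoImplicit false

open Cfsg Subgroup

namespace Cfsg.Agent.H804.K6.Ly

open Cfsg.Agent.H61.K6 Cfsg.Agent.H314.LyOrb Cfsg.Agent.H799.PB

universe u v

theorem krow_ly_five' : KRow.{u, 0} 5 Spor.Ly := by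
  have hfin : Finite Spor.Ly := Cfsg.Agent.Ly.Setup.finite_ly
  have hcard := Cfsg.Agent.Ly.Setup.card_ly
  refine H80.K6.KRow.of_height (by norm_num) (by rw [hcard]; norm_num) fun M hM => ?_
  obtain ⟨χ, -, hχ⟩ := exists_deg_ly
  have h2 : charDegree (χ 2 : Spor.Ly → ℂ) = 1534500 := hχ 2
  obtain ⟨L, f, hf⟩ := exists_lyType
  refine ⟨χ 2, ?_, ?_⟩
  · by_contra hcon
    have h3 := nb_five_five hf hcard M hM (χ 2) hcon
    rw [h2] at h3
    revert h3
    norm_num
  · rw [h2]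
    norm_num

/-- **`Ly`, `p = 5`.** -/
theorem krow_ly_five {S : Type v} [Group S] (h : Spor.IsoLy S) : KRow.{u, v} 5 S := by
  obtain ⟨e⟩ := h
  exact KRow.congr e.symm krow_ly_five'

end Cfsg.Agent.H804.K6.Ly
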