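import Cfsg.Agent.H804.K6.Th
import Cfsg.Agent.H800.Sp.B
import Cfsg.Agent.BM.KHAll

/-!
# S4876 (`k(B₀) = 6`): the Baby Monster, `p = 7` (helper804)

The Sylow 7-subgroup and the element of order three lie in the subgroup `Th`.
-/

set_option autoImplicit false

open Cfsg Subgroup

namespace Cfsg.Agent.H804.K6.BSeven

open Cfsg.Agent.H61.K6

universe u v

theorem krow_b_seven' : KRow.{u, 0} 7 Spor.BabyMonster := by
  obtain ⟨T, ⟨e⟩⟩ := H800.Sp.B.exists_th_B
  obtain ⟨s, y, h, H⟩ := Th.inert_th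
  have hB : Nat.card Spor.BabyMonster = 4154781481226426191177580544000000 := BM.KHAll.card_B
  have H' := H.map (T.subtype.comp e.symm.toMonoidHom) (T.subtype_injective.comp e.symm.injective)
    (by rw [hB]; norm_num)
  exact H404.K6.KRow.of_inertial H' (Or.inr ⟨rfl, le_rfl⟩)

/-- **`B`, `p = 7`.** -/
theorem krow_b_seven {S : Type v} [Group S] (h : Spor.IsoB S) : KRow.{u, v} 7 S := by
  obtain ⟨e⟩ := h
  exact KRow.congr e.symm krow_b_seven'

end Cfsg.Agent.H804.K6.BSeven
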