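import Cfsg.Agent.H61.K6.Base
import Cfsg.Agent.H461.E2.Cent
import Cfsg.Agent.H795.Untw
import Cfsg.Agent.H696.GmnThree
import Cfsg.Agent.OddHalf.LongSL.Chev

/-!
# S4876 (`k(B₀) = 6`), exceptional groups, `p = 3`, cross characteristic: elements of order three (helper804)

* `M3 R` : the element of order three of `SL₂(R)`, conjugate to its inverse over a finite field, diagonalizable over
  an algebraically closed field;
* `not_compl_of_inv` : an element of order three conjugate to its inverse;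
* `rho hp K s` : the homomorphism `SL₂(K) → D.group K` of the root number `s`; `rho_comm`;
* `uL hp K L` : the product of the `M3`'s of pairwise orthogonal fundamental roots;
* `card_uL` : the `r`-part of its centralizer, `KRow_of_lists`.
-/

set_option autoImplicit false
set_option linter.unusedSectionVars false

open Cfsg

namespace Cfsg.Agent.H804.K6

open Matrix
open Cfsg.Agent.ChevalleyStructure.SL2Hom (up lo mem_closure_SL2)

universe u v

/-! ### `SL₂` -/

section SL

/-- the element of order three -/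
def M3 (R : Type*) [CommRing R] : SpecialLinearGroup (Fin 2) R :=
  ⟨!![0, -1; 1, -1], by simp [Matrix.det_fin_two]⟩

theorem M3_pow (R : Type*) [CommRing R] : M3 R ^ 3 = 1 := by
  apply Subtype.ext
  show (!![0, -1; 1, -1] : Matrix (Fin 2) (Fin 2) R) ^ 3 = 1
  ext i j
  fin_cases i <;> fin_cases j <;> simp [pow_succ, Matrix.mul_apply, Fin.sum_univ_two]

theorem M3_ne_one (R : Type*) [CommRing R] [Nontrivial R] : M3 R ≠ 1 := by
  intro h
  have h1 := congrArg (fun g : SpecialLinearGroup (Fin 2) R => (g : Matrix (Fin 2) (Fin 2) R) 1 0) h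
  simp [M3] at h1

theorem map_M3 {R S : Type*} [CommRing R] [CommRing S] (f : R →+* S) : SpecialLinearGroup.map f (M3 R) = M3 S := by
  apply Subtype.ext
  rw [SpecialLinearGroup.map_apply_coe]
  ext i j
  fin_cases i <;> fin_cases j <;> simp [M3]

/-- diagonal elements -/
def dg {K : Type*} [Field K] (c : K) (hc : c ≠ 0) : SpecialLinearGroup (Fin 2) K :=
  ⟨!![c, 0; 0, c⁻¹], by simp [Matrix.det_fin_two, hc]⟩

theorem dg_eq {K : Type*} [Field K] (c : K) (hc : c ≠ 0) :
    dg c hc = (up c * (lo (-c⁻¹) * up c)) * (up (-1) * (lo (-(-1 : K)⁻¹) * up (-1))) := by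
  apply Subtype.ext
  show (!![c, 0; 0, c⁻¹] : Matrix (Fin 2) (Fin 2) K) = (!![1, c; 0, 1] * (!![1, 0; -c⁻¹, 1] * !![1, c; 0, 1])) *
    (!![1, -1; 0, 1] * (!![1, 0; -(-1 : K)⁻¹, 1] * !![1, -1; 0, 1]))
  have h1 : (-(-1 : K)⁻¹) = 1 := by rw [inv_neg, inv_one, neg_neg]
  rw [h1]
  ext i j
  fin_cases i <;> fin_cases j <;> simp [Matrix.mul_apply, Fin.sum_univ_two, hc]

/-- over a finite field of characteristic not three `M3` is conjugate to its inverse -/
theorem exists_inv (K : Type*) [Field K] [Fintype K] (h3 : (3 : K) ≠ 0) :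
    ∃ g : SpecialLinearGroup (Fin 2) K, g * M3 K * g⁻¹ = (M3 K)⁻¹ := by
  obtain ⟨a, c, hac⟩ : ∃ a c : K, a ^ 2 - a * c + c ^ 2 = -1 := by
    by_cases h2 : (2 : K) = 0
    · refine ⟨1, 0, ?_⟩
      have : (1 : K) + 1 = 0 := by rw [one_add_one_eq_two]; exact h2
      linear_combination this
    · have hodd : Fintype.card K % 2 = 1 := by
        rcases Nat.mod_two_eq_zero_or_one (Fintype.card K) with h | h
        · exfalso
          have := (FiniteField.even_card_iff_char_two (F := K)).2 h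
          have h4 : CharP K 2 := by rw [← this]; exact ringChar.charP K
          exact h2 (by exact_mod_cast CharP.cast_eq_zero K 2)
        · exact h
      obtain ⟨x, y, hxy⟩ := FiniteField.exists_root_sum_quadratic (R := K) (f := Polynomial.X ^ 2)
        (g := Polynomial.C 3 * Polynomial.X ^ 2 + Polynomial.C 4) (by rw [Polynomial.degree_X_pow]; rfl)
        (by
          have h5 : (Polynomial.C (3 : K) * Polynomial.X ^ 2 + Polynomial.C 4) =
            Polynomial.C 3 * Polynomial.X ^ 2 + Polynomial.C 0 * Polynomial.X + Polynomial.C 4 := by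
            rw [Polynomial.C_0, zero_mul, add_zero]
          rw [h5, Polynomial.degree_quadratic h3]) hodd
      simp only [Polynomial.eval_pow, Polynomial.eval_X, Polynomial.eval_add, Polynomial.eval_mul,
        Polynomial.eval_C] at hxy
      refine ⟨(x + y) / 2, y, ?_⟩
      field_simp
      linear_combination hxy
  have hd : (!![a, c - a; c, -a] : Matrix (Fin 2) (Fin 2) K).det = 1 := by
    rw [Matrix.det_fin_two_of]; linear_combination -hac
  obtain ⟨g, hg⟩ : ∃ g : SpecialLinearGroup (Fin 2) K, (g : Matrix (Fin 2) (Fin 2) K) = !![a, c - a; c, -a] :=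
    ⟨⟨_, hd⟩, rfl⟩
  refine ⟨g, ?_⟩
  rw [mul_inv_eq_iff_eq_mul]
  have h6 : (M3 K)⁻¹ = M3 K ^ 2 := by
    rw [inv_eq_iff_mul_eq_one, ← pow_succ', M3_pow]
  rw [h6]
  apply Subtype.ext
  show (g : Matrix (Fin 2) (Fin 2) K) * !![0, -1; 1, -1] = !![0, -1; 1, -1] ^ 2 * (g : Matrix (Fin 2) (Fin 2) K)
  rw [hg]
  ext i j
  fin_cases i <;> fin_cases j <;> simp [pow_two, Matrix.mul_apply, Fin.sum_univ_two] <;> ring

/-- `M3` is diagonalizable over a field with a primitive cube root of unity -/
theorem exists_diag {K : Type*} [Field K] {ω : K} (hω : IsPrimitiveRoot ω 3) :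
    ∃ P : SpecialLinearGroup (Fin 2) K, P⁻¹ * M3 K * P = dg ω (hω.ne_zero (by norm_num)) := by
  have h0 : ω ≠ 0 := hω.ne_zero (by norm_num)
  have h1 : ω ≠ 1 := hω.ne_one (by norm_num)
  have h2 : ω ^ 2 + ω + 1 = 0 := by
    have h3 : ω ^ 3 = 1 := hω.pow_eq_one
    have h4 : (ω - 1) * (ω ^ 2 + ω + 1) = 0 := by linear_combination h3
    rcases mul_eq_zero.1 h4 with h | h
    · exact absurd (sub_eq_zero.1 h) h1
    · exact h
  have h5 : ω - ω ^ 2 ≠ 0 := by
    have : ω - ω ^ 2 = ω * (1 - ω) := by ring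
    rw [this]
    exact mul_ne_zero h0 (sub_ne_zero.2 h1.symm)
  set s := (ω - ω ^ 2)⁻¹ with hs
  have hs1 : s * (ω - ω ^ 2) = 1 := inv_mul_cancel₀ h5
  have hd : (!![s, 1; -(s * ω), -ω ^ 2] : Matrix (Fin 2) (Fin 2) K).det = 1 := by
    rw [Matrix.det_fin_two_of]; linear_combination hs1
  obtain ⟨P, hP⟩ : ∃ g : SpecialLinearGroup (Fin 2) K, (g : Matrix (Fin 2) (Fin 2) K) = !![s, 1; -(s * ω), -ω ^ 2] :=
    ⟨⟨_, hd⟩, rfl⟩
  refine ⟨P, ?_⟩
  rw [mul_assoc, inv_mul_eq_iff_eq_mul]
  apply Subtype.ext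
  show !![0, -1; 1, -1] * (P : Matrix (Fin 2) (Fin 2) K) = (P : Matrix (Fin 2) (Fin 2) K) * !![ω, 0; 0, ω⁻¹]
  rw [hP]
  have h7 : ω⁻¹ = ω ^ 2 := inv_eq_of_mul_eq_one_right (by linear_combination hω.pow_eq_one)
  rw [h7]
  ext i j
  fin_cases i <;> fin_cases j <;> simp [Matrix.mul_apply, Fin.sum_univ_two]
  · linear_combination s * h2
  · linear_combination (ω ^ 2 - ω + 1) * h2

end SL

/-- an element of order three conjugate to its inverse -/
theorem not_compl_of_inv {H : Type*} [Group H] [Finite H] {v g : H} (h3 : v ^ 3 = 1) (h1 : v ≠ 1)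
    (h : g * v * g⁻¹ = v⁻¹) : ¬ HasNormalPComplement 3 H := by
  have : Fact (Nat.Prime 3) := ⟨Nat.prime_three⟩
  rintro ⟨P, N, hN, hc⟩
  have hcard : Nat.card (H ⧸ N) = Nat.card P := by
    rw [← Subgroup.index_eq_card, hc.symm.index_eq_card]
  have hQ : IsPGroup 3 (H ⧸ N) := by
    obtain ⟨n, hn⟩ := IsPGroup.iff_card.1 P.isPGroup'
    exact IsPGroup.of_card (hcard.trans hn)
  set π := QuotientGroup.mk' N
  obtain ⟨k, hk⟩ := hQ (π g)
  have hodd : Odd (orderOf (π g)) := by
    have h2 := orderOf_dvd_of_pow_eq_one hk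
    exact Odd.of_dvd_nat (Odd.pow (by decide)) h2
  have e1 : π g * π v * (π g)⁻¹ = (π v)⁻¹ := by rw [← map_inv, ← map_mul, ← map_mul, h, map_inv]
  have e2 : Commute (π g ^ 2) (π v) := by
    have h4 : π g ^ 2 * π v * (π g ^ 2)⁻¹ = π v := by
      have h5 : π g ^ 2 * π v * (π g ^ 2)⁻¹ = π g * (π g * π v * (π g)⁻¹) * (π g)⁻¹ := by rw [pow_two]; group
      rw [h5, e1]
      have h6 : π g * (π v)⁻¹ * (π g)⁻¹ = (π g * π v * (π g)⁻¹)⁻¹ := by group
      rw [h6, e1, inv_inv]
    exact (mul_inv_eq_iff_eq_mul.1 h4)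
  have e3 : Commute (π g) (π v) := by
    obtain ⟨m, hm⟩ := hodd
    have h5 : π g = (π g ^ 2) ^ (m + 1) := by
      rw [← pow_mul]
      have h6 : 2 * (m + 1) = orderOf (π g) + 1 := by omega
      rw [h6, pow_succ, pow_orderOf_eq_one, one_mul]
    rw [h5]
    exact e2.pow_left _
  have e4 : π v = (π v)⁻¹ := by rw [← e1, e3.eq, mul_inv_cancel_right]
  have e5 : π v = 1 := by
    have h6 : π v ^ 2 = 1 := by rw [pow_two]; nth_rw 1 [e4]; exact inv_mul_cancel _
    have h7 : π v ^ 3 = 1 := by rw [← map_pow, h3, map_one]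
    rw [pow_succ, h6, one_mul] at h7
    exact h7
  have hvN : v ∈ N := (QuotientGroup.eq_one_iff v).1 e5
  have hd : orderOf v ∣ Nat.card N := by
    have := orderOf_dvd_natCard (⟨v, hvN⟩ : N)
    rwa [← Subgroup.orderOf_coe] at this
  have ho : orderOf v = 3 := orderOf_eq_prime h3 h1
  rw [ho] at hd
  have h8 : ¬ 3 ∣ Nat.card N := by
    have h9 := P.not_dvd_index
    rwa [hc.index_eq_card] at h9
  exact h8 hd

/-- the same inside the centralizer of `x` -/
theorem not_compl_cent {X : Type*} [Group X] [Finite X] {x v g : X} (h3 : v ^ 3 = 1) (h1 : v ≠ 1)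
    (h : g * v * g⁻¹ = v⁻¹) (hv : v * x = x * v) (hg : g * x = x * g) :
    ¬ HasNormalPComplement 3 ↥(Subgroup.centralizer ({x} : Set X)) := by
  refine not_compl_of_inv (v := ⟨v, Subgroup.mem_centralizer_singleton_iff.2 hv⟩)
    (g := ⟨g, Subgroup.mem_centralizer_singleton_iff.2 hg⟩) (Subtype.ext h3) (fun e => h1 (congrArg Subtype.val e))
    (Subtype.ext h)

/-! ### the rank one groups -/

open CoxeterSystem Cfsg.Lie Cfsg.Lie.ChevalleyDatum
open Cfsg.Agent.ChevalleyStructure Cfsg.Agent.ChevalleyStructure.Elts Cfsg.Agent.ChevalleyStructure.CoxeterGeom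
  Cfsg.Agent.ChevalleyStructure.CoxeterGeomTypes Cfsg.Agent.ChevalleyStructure.NPerm
open Cfsg.Agent.Tits.Roots Cfsg.Agent.Tits.Core Cfsg.Agent.Nodes Cfsg.Agent.Nodes.Reps Cfsg.Agent.Nodes.BNOf
  Cfsg.Agent.Nodes.RGDChev Cfsg.Agent.Nodes.Bruhat
open Cfsg.Agent.KFacts.RgdField Cfsg.Agent.KFacts.RgdChevCoord Cfsg.Agent.BpExc.TorCent Cfsg.Agent.BpExc.TorChev
open Cfsg.Agent.GpExc.Field Cfsg.Agent.BpExc.Tow Cfsg.Agent.BpExc.TowChev Cfsg.Agent.BpExc.Fr
  Cfsg.Agent.BpExc.LangFr Cfsg.Agent.H795.SetCent Cfsg.Agent.H795.Toral Cfsg.Agent.H795.Core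
  Cfsg.Agent.H795.RootConn Cfsg.Agent.H795.SetTor Cfsg.Agent.H129.TorusChar Cfsg.Agent.H129.TorusUntw
  Cfsg.Agent.BpExc

section Rho

variable {D : ChevalleyDatum} {l : ℕ} {M : CoxeterMatrix (Fin l)} (hp : IsType D l M)

section

variable (K : Type) [Field K]

/-- root elements in `D.group K` -/
noncomputable def xr (s : ℕ) (a : K) : ↥(D.group K) := ⟨xG hp.inList s a, xG_mem_group hp.inList _ a⟩

/-- the homomorphism `SL₂(K) → D.group K` of the root number `s` -/
noncomputable def rho {s : ℕ} (hs : s < D.nroots) : SpecialLinearGroup (Fin 2) K →* ↥(D.group K) :=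
  (SL2Hom.phi (SL2All.good_of_mem D hp.inList s hs) K).codRestrict
    (D.group K) (fun g => by
      have h1 := SL2Hom.range_phi (F := K) (SL2All.good_of_mem D hp.inList s hs)
      have h2 : SL2Hom.phi (SL2All.good_of_mem D hp.inList s hs) K g ∈
          D.rootSubgroup K s ⊔ D.rootSubgroup K (D.neg s) := by rw [← h1]; exact ⟨g, rfl⟩
      refine (sup_le (fun y hy => ?_) (fun y hy => ?_) :
        D.rootSubgroup K s ⊔ D.rootSubgroup K (D.neg s) ≤ D.group K) h2
      · obtain ⟨t, rfl⟩ := (mem_rootSubgroup_iff hp.inList _ _).1 hy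
        exact xG_mem_group hp.inList _ t
      · obtain ⟨t, rfl⟩ := (mem_rootSubgroup_iff hp.inList _ _).1 hy
        exact xG_mem_group hp.inList _ t)

variable {K}

theorem rho_up {s : ℕ} (hs : s < D.nroots) (t : K) : rho hp K hs (up t) = xr hp K s t :=
  Subtype.ext (Units.ext (SL2Hom.phi_upper _ _ t rfl))

theorem rho_lo {s : ℕ} (hs : s < D.nroots) (t : K) : rho hp K hs (lo t) = xr hp K (D.neg s) t :=
  Subtype.ext (Units.ext (SL2Hom.phi_lower _ _ t rfl))

theorem rho_dg {s : ℕ} (hs : s < D.nroots) {c : K} (hc : c ≠ 0) :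
    ((rho hp K hs (dg c hc) : ↥(D.group K)) : GL D.Idx K) = hG hp.inList s c := by
  rw [dg_eq, map_mul, map_mul, map_mul, map_mul, map_mul, rho_up, rho_lo, rho_up, rho_lo, hG_def, nG_def, nG_def]
  rfl

theorem rho_dg_simple (j : Fin l) {c : K} (hc0 : c ≠ 0) :
    rho hp K (simple_lt hp.inList (lt_rank hp j)) (dg c hc0) = hc hp j c :=
  Subtype.ext (rho_dg hp _ hc0)

/-- the root subgroups of `± r`, `± s` commute -/
def orthB (D : ChevalleyDatum) (r s : ℕ) : Bool :=
  (s != r && s != D.neg r) && ((D.commTerms r s).isEmpty && (D.commTerms (D.neg r) s).isEmpty &&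
    (D.commTerms r (D.neg s)).isEmpty && (D.commTerms (D.neg r) (D.neg s)).isEmpty)

theorem commute_xr {r s : ℕ} (hr : r < D.nroots) (hs : s < D.nroots) (h : orthB D r s = true) (t u : K) :
    Commute (xr hp K r t) (xr hp K s u) ∧ Commute (xr hp K (D.neg r) t) (xr hp K s u) ∧
      Commute (xr hp K r t) (xr hp K (D.neg s) u) ∧ Commute (xr hp K (D.neg r) t) (xr hp K (D.neg s) u) := by
  simp only [orthB, Bool.and_eq_true, bne_iff_ne, List.isEmpty_iff] at h
  obtain ⟨⟨h1, h2⟩, ⟨⟨c1, c2⟩, c3⟩, c4⟩ := h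
  have hnr := neg_lt hp.inList hr
  have hns := neg_lt hp.inList hs
  have hnn : ∀ {t : ℕ}, t < D.nroots → D.neg (D.neg t) = t := fun ht => RootVec.neg_neg hp.checked ht
  have n1 : D.neg s ≠ r := fun e => h2 (by rw [← e, hnn hs])
  have n2 : D.neg s ≠ D.neg r := fun e => h1 (by rw [← hnn hs, e, hnn hr])
  exact ⟨Subtype.ext (OddHalf.LongSL.Chev.commute_xG hp K hr hs h1 h2 c1 t u).symm,
    Subtype.ext (OddHalf.LongSL.Chev.commute_xG hp K hnr hs h2 (by rw [hnn hr]; exact h1) c2 t u).symm,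
    Subtype.ext (OddHalf.LongSL.Chev.commute_xG hp K hr hns n1 n2 c3 t u).symm,
    Subtype.ext (OddHalf.LongSL.Chev.commute_xG hp K hnr hns n2 (by rw [hnn hr]; exact n1) c4 t u).symm⟩

/-- commuting of homomorphisms of `SL₂` is checked on the generators -/
theorem comm_of_gen {Y : Type*} [Group Y] (φ : SpecialLinearGroup (Fin 2) K →* Y) {y : Y}
    (h1 : ∀ t, Commute (φ (up t)) y) (h2 : ∀ t, Commute (φ (lo t)) y) (g : SpecialLinearGroup (Fin 2) K) :
    Commute (φ g) y := by
  have h3 : g ∈ (Subgroup.centralizer ({y} : Set Y)).comap φ := by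
    refine (Subgroup.closure_le _).2 ?_ (mem_closure_SL2 g)
    rintro x (⟨t, rfl⟩ | ⟨t, rfl⟩)
    · exact Subgroup.mem_centralizer_singleton_iff.2 (h1 t)
    · exact Subgroup.mem_centralizer_singleton_iff.2 (h2 t)
  exact Subgroup.mem_centralizer_singleton_iff.1 h3

theorem rho_comm {r s : ℕ} (hr : r < D.nroots) (hs : s < D.nroots) (h : orthB D r s = true)
    (x y : SpecialLinearGroup (Fin 2) K) : Commute (rho hp K hr x) (rho hp K hs y) := by
  refine comm_of_gen _ (fun t => ?_) (fun t => ?_) x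
  · refine (comm_of_gen _ (fun u => ?_) (fun u => ?_) y).symm
    · rw [rho_up, rho_up]; exact (commute_xr hp hr hs h t u).1.symm
    · rw [rho_up, rho_lo]; exact (commute_xr hp hr hs h t u).2.2.1.symm
  · refine (comm_of_gen _ (fun u => ?_) (fun u => ?_) y).symm
    · rw [rho_up, rho_lo]; exact (commute_xr hp hr hs h t u).2.1.symm
    · rw [rho_lo, rho_lo]; exact (commute_xr hp hr hs h t u).2.2.2.symm

end

/-- two homomorphisms of `SL₂` agree if they agree on the generators -/
theorem eq_of_gen {K : Type*} [Field K] {Y : Type*} [Group Y] {φ ψ : SpecialLinearGroup (Fin 2) K →* Y}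
    (h1 : ∀ t, φ (up t) = ψ (up t)) (h2 : ∀ t, φ (lo t) = ψ (lo t)) : φ = ψ := by
  ext g
  have h3 : g ∈ MonoidHom.eqLocus φ ψ := by
    refine (Subgroup.closure_le _).2 ?_ (mem_closure_SL2 g)
    rintro x (⟨t, rfl⟩ | ⟨t, rfl⟩)
    · exact h1 t
    · exact h2 t
  exact h3

theorem emb_xr {F K : Type} [Field F] [Field K] (f : F →+* K) {s : ℕ} (a : F) :
    emb hp.inList f (xr hp F s a) = xr hp K s (f a) := by
  apply Subtype.ext
  rw [coe_emb]
  exact glMap_xG hp.inList f _ _

theorem emb_rho {F K : Type} [Field F] [Field K] (f : F →+* K) {s : ℕ} (hs : s < D.nroots)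
    (g : SpecialLinearGroup (Fin 2) F) :
    emb hp.inList f (rho hp F hs g) = rho hp K hs (SpecialLinearGroup.map f g) := by
  have h : (emb hp.inList f).comp (rho hp F hs) = (rho hp K hs).comp (SpecialLinearGroup.map f) := by
    refine eq_of_gen (fun t => ?_) (fun t => ?_)
    · rw [MonoidHom.comp_apply, MonoidHom.comp_apply, rho_up, emb_xr]
      have e : SpecialLinearGroup.map f (up t) = up (f t) := by
        apply Subtype.ext
        rw [SpecialLinearGroup.map_apply_coe]
        ext i j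
        fin_cases i <;> fin_cases j <;> simp [up]
      rw [e, rho_up]
    · rw [MonoidHom.comp_apply, MonoidHom.comp_apply, rho_lo, emb_xr]
      have e : SpecialLinearGroup.map f (lo t) = lo (f t) := by
        apply Subtype.ext
        rw [SpecialLinearGroup.map_apply_coe]
        ext i j
        fin_cases i <;> fin_cases j <;> simp [lo]
      rw [e, rho_lo]
  exact congrArg (fun φ => φ g) h

/-! ### lists of orthogonal nodes -/

section Lists

variable (K : Type) [Field K]

/-- the product of the elements `g` of the rank one groups of the nodes `L` -/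
noncomputable def prodL (L : List (Fin l)) (g : SpecialLinearGroup (Fin 2) K) : ↥(D.group K) :=
  (L.map fun j => rho hp K (simple_lt hp.inList (lt_rank hp j)) g).prod

/-- pairwise orthogonal nodes -/
def Orth (D : ChevalleyDatum) {l : ℕ} (L : List (Fin l)) : Prop :=
  L.Pairwise fun (i j : Fin l) => orthB D (D.simple i) (D.simple j) = true

instance (D : ChevalleyDatum) {l : ℕ} (L : List (Fin l)) : Decidable (Orth D L) := by
  unfold Orth; infer_instance

variable {K}

theorem comm_prodL {s : ℕ} (hs : s < D.nroots) {L : List (Fin l)} (h : ∀ i ∈ L, orthB D s (D.simple i) = true)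
    (x y : SpecialLinearGroup (Fin 2) K) : Commute (rho hp K hs x) (prodL hp K L y) := by
  induction L with
  | nil => exact Commute.one_right _
  | cons i L ih =>
    unfold prodL
    rw [List.map_cons, List.prod_cons]
    exact (rho_comm hp hs _ (h i (List.mem_cons_self)) x y).mul_right (ih fun i hi => h i (List.mem_cons_of_mem _ hi))

/-- the diagonal homomorphism -/
noncomputable def PL {L : List (Fin l)} (hL : Orth D L) : SpecialLinearGroup (Fin 2) K →* ↥(D.group K) where
  toFun := prodL hp K L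
  map_one' := by
    unfold prodL
    refine List.prod_eq_one fun y hy => ?_
    obtain ⟨j, -, rfl⟩ := List.mem_map.1 hy
    exact map_one _
  map_mul' x y := by
    induction L with
    | nil => exact (mul_one (1 : ↥(D.group K))).symm
    | cons i L ih =>
      have h1 := List.pairwise_cons.1 hL
      have h2 := comm_prodL (K := K) hp (simple_lt hp.inList (lt_rank hp i)) h1.1 y x
      have h3 := ih h1.2
      show prodL hp K (i :: L) (x * y) = prodL hp K (i :: L) x * prodL hp K (i :: L) y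
      have e : ∀ z, prodL hp K (i :: L) z = rho hp K (simple_lt hp.inList (lt_rank hp i)) z * prodL hp K L z :=
        fun z => rfl
      rw [e, e, e, map_mul, h3]
      have h4 := h2.eq
      rw [mul_assoc, mul_assoc, ← mul_assoc _ (prodL hp K L x), h4]
      group

theorem PL_apply {L : List (Fin l)} (hL : Orth D L) (g : SpecialLinearGroup (Fin 2) K) :
    PL hp hL g = prodL hp K L g := rfl

variable (K) in
/-- the element of order three of the nodes `L` -/
noncomputable def uL (L : List (Fin l)) : ↥(D.group K) := prodL hp K L (M3 K)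

theorem uL_pow {L : List (Fin l)} (hL : Orth D L) : uL hp K L ^ 3 = 1 := by
  show PL hp hL (M3 K) ^ 3 = 1
  rw [← map_pow, M3_pow, map_one]

theorem emb_uL {F K : Type} [Field F] [Field K] (f : F →+* K) (L : List (Fin l)) :
    emb hp.inList f (uL hp F L) = uL hp K L := by
  unfold uL prodL
  rw [map_list_prod, List.map_map]
  congr 1
  refine List.map_congr_left fun j _ => ?_
  rw [Function.comp_apply, emb_rho, map_M3]

/-- the number of positive roots trivial on the torus element of `L` -/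
def NL (D : ChevalleyDatum) (l : ℕ) (L : List (Fin l)) : ℕ :=
  ((Finset.range D.nroots).filter fun s => (∀ i : Fin l, 0 ≤ vec D l s i) ∧
    (3 : ℤ) ∣ (L.map fun (j : Fin l) => D.cartan j s).sum).card

section closed

variable {k : Type} [Field k] [IsAlgClosed k] (hk : LocFin k) {r : ℕ} [Fact r.Prime] [CharP k r]

include hk r in
theorem ch_prodL {c : k} (hc0 : c ≠ 0) (L : List (Fin l)) :
    prodL hp k L (dg c hc0) ∈ TT D k ∧ ∀ a, IsRoot M.toCoxeterSystem hp.isCartan a →
      ch hp a (prodL hp k L (dg c hc0)) = c ^ (L.map fun j => pairing (cartanOf D l) j a).sum := by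
  have C := coordsL hp M.toCoxeterSystem hk r (k := k)
  induction L with
  | nil =>
    refine ⟨one_mem _, fun a ha => ?_⟩
    have h1 := (C.coord a ha).chi_mul (one_mem (TT D k)) (one_mem _)
    rw [mul_one] at h1
    show ch hp a 1 = c ^ (0 : ℤ)
    rw [zpow_zero]
    exact (mul_eq_left₀ ((C.coord a ha).chi_ne_zero (one_mem _))).1 h1.symm
  | cons i L ih =>
    have e : prodL hp k (i :: L) (dg c hc0) = hc hp i c * prodL hp k L (dg c hc0) := by
      rw [← rho_dg_simple hp i hc0]
      rfl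
    rw [e]
    have h1 : hc hp i c ∈ TT D k := hc_mem hp i hc0
    refine ⟨mul_mem h1 ih.1, fun a ha => ?_⟩
    rw [(C.coord a ha).chi_mul h1 ih.1, ih.2 a ha, H696.GmnThree.ch_hc' hp hk r M.toCoxeterSystem hc0 i ha,
      List.map_cons, List.sum_cons, zpow_add₀ hc0]

theorem ncard_eq_NL (L : List (Fin l)) :
    {a | IsRoot M.toCoxeterSystem hp.isCartan a ∧ (3 : ℤ) ∣ (L.map fun j => pairing (cartanOf D l) j a).sum ∧
      0 ≤ a}.ncard = NL D l L := by
  classical
  have h1 : {a | IsRoot M.toCoxeterSystem hp.isCartan a ∧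
      (3 : ℤ) ∣ (L.map fun j => pairing (cartanOf D l) j a).sum ∧ 0 ≤ a} =
      (((Finset.range D.nroots).filter fun s => (∀ i : Fin l, 0 ≤ vec D l s i) ∧
        (3 : ℤ) ∣ (L.map fun (j : Fin l) => D.cartan j s).sum).image (vec D l) : Finset (Fin l → ℤ)) := by
    ext a
    rw [Set.mem_ofPred_eq, Finset.mem_coe, Finset.mem_image]
    constructor
    · rintro ⟨h1, h2, h3⟩
      obtain ⟨s, hs, rfl⟩ := (isRoot_iff hp _ _).1 h1
      refine ⟨s, Finset.mem_filter.2 ⟨Finset.mem_range.2 hs, h3, ?_⟩, rfl⟩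
      have e : (L.map fun (j : Fin l) => D.cartan j s) = L.map fun j => pairing (cartanOf D l) j (vec D l s) :=
        List.map_congr_left fun j _ => (pairing_vec hp j hs).symm
      rw [e]; exact h2
    · rintro ⟨s, hs, rfl⟩
      obtain ⟨h1, h2, h3⟩ := Finset.mem_filter.1 hs
      have hs' := Finset.mem_range.1 h1
      refine ⟨(isRoot_iff hp _ _).2 ⟨s, hs', rfl⟩, ?_, h2⟩
      have e : (L.map fun j => pairing (cartanOf D l) j (vec D l s)) = L.map fun (j : Fin l) => D.cartan j s :=
        List.map_congr_left fun j _ => pairing_vec hp j hs'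
      rw [e]; exact h3
  rw [h1, Set.ncard_coe_finset, Finset.card_image_of_injOn]
  · rfl
  · intro a ha b hb hab
    exact vec_inj hp (Finset.mem_range.1 (Finset.mem_filter.1 ha).1) (Finset.mem_range.1 (Finset.mem_filter.1 hb).1) hab

theorem exists_omega (hr3 : r ≠ 3) : ∃ ω : k, IsPrimitiveRoot ω 3 := by
  have h3 : ((3 : ℕ) : k) ≠ 0 := by
    intro h
    have h1 := (CharP.cast_eq_zero_iff k r 3).1 h
    exact hr3 ((Nat.prime_dvd_prime_iff_eq Fact.out Nat.prime_three).1 h1)
  have : NeZero ((3 : ℕ) : k) := ⟨h3⟩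
  exact HasEnoughRootsOfUnity.exists_primitiveRoot k 3

include hk in
/-- **The `r`-part of the centralizer of the element of `L`.** -/
theorem card_of_uL {G : Type v} [Group G] [Finite G] {p e : ℕ} {f : G →* ↥(D.group k)} {σ : MulAut ↥(D.group k)}
    {g : (Fin l → ℤ) ≃+ (Fin l → ℤ)} (h : Setup hp p r e f σ g) (hr3 : r ≠ 3) {x : G} {L : List (Fin l)}
    (hL : Orth D L) (hx : f x = uL hp k L) :
    x ^ 3 = 1 ∧ (Nat.card ↥(Subgroup.centralizer {x})).factorization r = e * NL D l L := by
  obtain ⟨ω, hω⟩ := exists_omega (k := k) (r := r) hr3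
  have h0 : ω ≠ 0 := hω.ne_zero (by norm_num)
  obtain ⟨P, hP⟩ := exists_diag hω
  have hx3 : x ^ 3 = 1 := by
    apply h.inj
    rw [map_pow, hx, map_one, uL_pow hp hL]
  refine ⟨hx3, ?_⟩
  obtain ⟨h1, h2⟩ := ch_prodL hp hk (r := r) h0 L
  have h3 : (PL hp hL P)⁻¹ * f x * PL hp hL P = prodL hp k L (dg ω h0) := by
    have e1 : f x = PL hp hL (M3 k) := hx
    rw [e1, ← map_inv, ← map_mul, ← map_mul, hP]
    rfl
  rw [H461.E2.Cent.card_centralizer hk h Nat.prime_three (fun h => hr3 h.symm) hx3 h3 h1, ← ncard_eq_NL hp L]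
  congr 2
  ext a
  constructor
  · rintro ⟨h4, h5, h6⟩
    rw [h2 a h4, hω.zpow_eq_one_iff_dvd] at h5
    exact ⟨h4, h5, h6⟩
  · rintro ⟨h4, h5, h6⟩
    refine ⟨h4, ?_, h6⟩
    rw [h2 a h4, hω.zpow_eq_one_iff_dvd]
    exact h5

end closed

end Lists

end Rho

/-! ### the criterion -/

/-- Three elements of order three told apart by the `r`-parts of their centralizers. -/
theorem krow_of_three {G : Type v} [Group G] [Finite G] {r e : ℕ} (he : 0 < e) {x y z : G} {N₀ N₁ N₂ N₃ : ℕ}
    (hx : x ^ 3 = 1) (hy : y ^ 3 = 1) (hz : z ^ 3 = 1)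
    (h0 : (Nat.card ↥(Subgroup.centralizer ({1} : Set G))).factorization r = e * N₀)
    (h1 : (Nat.card ↥(Subgroup.centralizer ({x} : Set G))).factorization r = e * N₁)
    (h2 : (Nat.card ↥(Subgroup.centralizer ({y} : Set G))).factorization r = e * N₂)
    (h3 : (Nat.card ↥(Subgroup.centralizer ({z} : Set G))).factorization r = e * N₃)
    (h10 : N₁ < N₀) (h21 : N₂ < N₁) (h32 : N₃ < N₂) (hG : ¬ HasNormalPComplement 3 G)
    (hcx : ¬ HasNormalPComplement 3 ↥(Subgroup.centralizer ({x} : Set G)))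
    (hcy : ¬ HasNormalPComplement 3 ↥(Subgroup.centralizer ({y} : Set G))) : H61.K6.KRow.{u, v} 3 G := by
  classical
  have key : ∀ {a b : G} {m n : ℕ}, (Nat.card ↥(Subgroup.centralizer ({a} : Set G))).factorization r = e * m →
      (Nat.card ↥(Subgroup.centralizer ({b} : Set G))).factorization r = e * n →
      Nat.card ↥(Subgroup.centralizer ({a} : Set G)) = Nat.card ↥(Subgroup.centralizer ({b} : Set G)) → m = n := by
    intro a b m n ha hb hab
    rw [hab, hb] at ha
    exact (Nat.eq_of_mul_eq_mul_left he ha).symm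
  have nx : x ≠ 1 := by
    rintro rfl
    have := key h1 h0 rfl
    omega
  have ny : y ≠ 1 := by
    rintro rfl
    have := key h2 h0 rfl
    omega
  have nz : z ≠ 1 := by
    rintro rfl
    have := key h3 h0 rfl
    omega
  have nxy : x ≠ y := by
    rintro rfl
    have := key h1 h2 rfl
    omega
  have nxz : x ≠ z := by
    rintro rfl
    have := key h1 h3 rfl
    omega
  have nyz : y ≠ z := by
    rintro rfl
    have := key h2 h3 rfl
    omega
  have hEl : ∀ {a : G}, a ^ 3 = 1 → a ≠ 1 → H61.K6.El 3 a := fun {a} h3 h1 =>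
    ⟨⟨1, (orderOf_eq_prime (p := 3) h3 h1).trans (pow_one 3).symm⟩, h1⟩
  refine H61.K6.KRow.of_wt_card hG {x, y, z} ?_ ?_ ?_
  · intro a ha
    simp only [Finset.mem_insert, Finset.mem_singleton] at ha
    rcases ha with rfl | rfl | rfl
    · exact hEl hx nx
    · exact hEl hy ny
    · exact hEl hz nz
  · intro a ha b hb _ hab
    simp only [Finset.mem_insert, Finset.mem_singleton] at ha hb
    rcases ha with rfl | rfl | rfl <;> rcases hb with rfl | rfl | rfl
    · rfl
    · have := key h1 h2 hab; omega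
    · have := key h1 h3 hab; omega
    · have := key h2 h1 hab; omega
    · rfl
    · have := key h2 h3 hab; omega
    · have := key h3 h1 hab; omega
    · have := key h3 h2 hab; omega
    · rfl
  · rw [Finset.sum_insert (by simp [nxy, nxz]), Finset.sum_insert (by simp [nyz]), Finset.sum_singleton,
      H61.K6.wt_eq_two hcx, H61.K6.wt_eq_two hcy]
    have := H61.K6.one_le_wt (p := 3) z
    omega

end Cfsg.Agent.H804.K6
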