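import Cfsg.Agent.H80.K6.Crit
import Cfsg.Agent.H404.K6.CritE
import Cfsg.Agent.H492.FactsTh
import Cfsg.Agent.H491.PB.Th
import Cfsg.Agent.H49.ThFiveDat
import Cfsg.Agent.S1700

/-!
# S4876 (`k(B₀) = 6`): the Thompson group, `p = 3, 5, 7` (helper804)

* `p = 7` : `C(7A) = 7 × L₃(2)` (criterion of the inertial group);
* `p = 5` : `C(5A) = 5^{1+2} : 2A₄` is constrained with elements of orders `1, 2, 3, 4, 6`: weight five;
* `p = 3` : the character of degree `51684750 = 2·3³·5³·13·19·31` is in the principal block.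
-/

set_option autoImplicit false

open Cfsg Subgroup

namespace Cfsg.Agent.H804.K6.Th

open Cfsg.Agent.H61.K6

universe u v

/-! ### `p = 7` -/

theorem inert_seven {G : Type*} [Group G] {s y h : G} (hs : orderOf s = 7) (hys : y * s = s * y) (hhs : h * s = s * h)
    {k : ℤ} (hh : h * y * h⁻¹ = y ^ 2 * s ^ k) (hy7 : y ^ 7 ∈ zpowers s) (hy : y ∉ zpowers s)
    (hc : ¬ 7 ^ 3 ∣ Nat.card G) : ∃ y', H404.K6.Inert 7 s y' h 2 3 := by
  have h7 : Fact (Nat.Prime 7) := ⟨by norm_num⟩
  have cys : Commute y s := hys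
  have chs : Commute h s := hhs
  have hk : h * s ^ k * h⁻¹ = s ^ k := by rw [(chs.zpow_right k).eq, mul_inv_cancel_right]
  have hs7 : s ^ 7 = 1 := by rw [← hs, pow_orderOf_eq_one]
  set w := y * s ^ k with hw
  have cws : Commute w s := cys.mul_left ((Commute.refl s).zpow_left k)
  have hw2 : h * w * h⁻¹ = w ^ 2 := by
    calc h * w * h⁻¹ = (h * y * h⁻¹) * (h * s ^ k * h⁻¹) := by rw [hw]; group
      _ = y ^ 2 * s ^ k * s ^ k := by rw [hh, hk]
      _ = w ^ 2 := by rw [hw, (cys.zpow_right k).mul_pow, mul_assoc, ← pow_two]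
  have hw7' : w ^ 7 ∈ zpowers s := by
    rw [hw, (cys.zpow_right k).mul_pow]
    exact mul_mem hy7 (pow_mem (zpow_mem (mem_zpowers s) k) 7)
  have hw7 : w ^ 7 = 1 := by
    obtain ⟨m, hm⟩ := hw7'
    have hm' : s ^ m = w ^ 7 := hm
    have h1 : h * w ^ 7 * h⁻¹ = w ^ 7 := by rw [← hm', (chs.zpow_right m).eq, mul_inv_cancel_right]
    have h2 : h * w ^ 7 * h⁻¹ = w ^ 7 * w ^ 7 := by rw [← conj_pow, hw2, ← pow_mul, ← pow_add]
    rw [h1] at h2
    exact (mul_eq_left.1 h2.symm)
  have hwn : w ∉ zpowers s := by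
    intro h1
    apply hy
    have h2 : y = w * (s ^ k)⁻¹ := by rw [hw]; group
    rw [h2]
    exact mul_mem h1 (inv_mem (zpow_mem (mem_zpowers s) k))
  refine ⟨w, ⟨hc, hs, orderOf_eq_prime hw7 ?_, cws.symm, hwn, hhs, hw2, ?_⟩⟩
  · intro h1
    exact hwn (h1 ▸ one_mem _)
  · intro i h0 h3
    interval_cases i <;> decide

section Seven

open Cfsg.Agent.ThType.CentSeven Cfsg.Agent.ThType.CentSeven.Setup Cfsg.Agent.ThType.CentSevenGL Cfsg.Agent.H491.PB.Th Cfsg.Agent.H502.TO

def mH : M3 := !![1,0,0;0,0,1;0,1,1]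
def mH' : M3 := !![1,0,0;0,1,1;0,1,0]

def gH : G3 := ⟨mH, mH', by decide +kernel, by decide +kernel⟩

theorem gH_rel : gH * gB * gH⁻¹ = gB ^ 2 := by
  rw [mul_inv_eq_iff_eq_mul, pow_two]
  apply Units.ext
  show mH * mB = mB * mB * mH
  decide +kernel

theorem inert_th : ∃ s y h : Spor.Th, H404.K6.Inert 7 s y h 2 3 := by
  have := fin_th
  have h := H723.Spor.Th.setup Cfsg.Agent.KFacts.Th.Main.ctx H723.Spor.Th.hone
  set s := Cfsg.Agent.Th.IndexUpper.gTh 6 with hs
  have h7 : orderOf s = 7 := h.s7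
  have h168 : Nat.card (centralizer ({s} : Set Spor.Th)) = 7 * 168 := card_seven h7
  obtain ⟨e, -, -⟩ := exists_equiv h.hyp (h.card_Y h168)
  obtain ⟨y, hy⟩ := pr_surj s (e.symm gB)
  obtain ⟨k, hk⟩ := pr_surj s (e.symm gH)
  have hrel : pr s (k * y * k⁻¹ * (y ^ 2)⁻¹) = 1 := by
    rw [map_mul, map_mul, map_mul, map_inv, map_inv, map_pow, hy, hk, ← map_inv, ← map_mul, ← map_mul, gH_rel, map_pow,
      mul_inv_cancel]
  obtain ⟨m, hm⟩ := pr_eq_one.1 hrel
  have hy7 : pr s (y ^ 7) = 1 := by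
    rw [map_pow, hy, ← map_pow, ← gB_order, pow_orderOf_eq_one, map_one]
  obtain ⟨n, hn⟩ := pr_eq_one.1 hy7
  have hys : (y : Spor.Th) * s = s * y := memH.1 y.2
  have hks : (k : Spor.Th) * s = s * k := memH.1 k.2
  obtain ⟨w, hw⟩ := inert_seven (s := s) (y := (y : Spor.Th)) (h := (k : Spor.Th)) h7 hys hks (k := m) (by
      have h1 : (k : Spor.Th) * y * (k : Spor.Th)⁻¹ * ((y : Spor.Th) ^ 2)⁻¹ = s ^ m := by
        rw [← hm]
        rfl
      have h2 : (k : Spor.Th) * y * (k : Spor.Th)⁻¹ = s ^ m * (y : Spor.Th) ^ 2 := by rw [← h1]; group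
      have c : Commute (y : Spor.Th) s := hys
      rw [h2, ((c.pow_left 2).zpow_right m).eq])
    (by
      have h1 : (y : Spor.Th) ^ 7 = s ^ n := by
        rw [← hn]
        rfl
      rw [h1]
      exact zpow_mem (mem_zpowers s) n)
    (by
      rintro ⟨j, hj⟩
      have hj' : s ^ j = (y : Spor.Th) := hj
      have h1 : pr s y = 1 := pr_eq_one.2 ⟨j, hj'.symm⟩
      rw [hy, MulEquiv.map_eq_one_iff] at h1
      have h2 := gB_order
      rw [h1, orderOf_one] at h2
      norm_num at h2)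
    (by rw [card_th]; norm_num)
  exact ⟨s, w, _, hw⟩

/-- **`Th`, `p = 7`.** -/
theorem krow_th_seven' : KRow.{u, 0} 7 Spor.Th := by
  obtain ⟨s, y, h, H⟩ := inert_th
  exact H404.K6.KRow.of_inertial H (Or.inr ⟨rfl, le_rfl⟩)

end Seven

/-! ### `p = 5` -/

section Five

open Cfsg.Agent.H49.ThFive Cfsg.Agent.H491.PB.Th Cfsg.Agent.H502.TO

/-- the orders of the elements of `C(s)` -/
theorem exists_orders {H : Type u} [Group H] [Finite H] {x y z s : H} (L : Loc x y z s) :
    ∀ m ∈ ({1, 2, 3, 4, 6} : Finset ℕ), ∃ g : H, orderOf g = m := by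
  have h2F : Fact (Nat.Prime 2) := ⟨Nat.prime_two⟩
  have h3F : Fact (Nat.Prime 3) := ⟨Nat.prime_three⟩
  have h8 : 2 ^ 3 ∣ Nat.card ↥(centralizer ({s} : Set H)) := Dvd.dvd.trans (by norm_num) L.c120
  -- an element of order 4
  have h4 : ∃ g : H, orderOf g = 4 := by
    obtain ⟨T, hT⟩ := Sylow.exists_subgroup_card_pow_prime (G := ↥(centralizer ({s} : Set H))) 2 h8
    by_contra hcon
    push Not at hcon
    have h1 : ∀ t : ↥(centralizer ({s} : Set H)), t ∈ T → t = 1 ∨ (t : H) = s := by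
      intro t ht
      have h2 : orderOf (t : H) ∣ 2 ^ 3 := by
        rw [Subgroup.orderOf_coe, ← hT]
        exact Subgroup.orderOf_dvd_natCard T ht
      obtain ⟨k, hk, hk'⟩ := (Nat.dvd_prime_pow Nat.prime_two).1 h2
      interval_cases k
      · left
        rw [pow_zero, orderOf_eq_one_iff] at hk'
        exact Subtype.ext hk'
      · right
        exact L.uniq _ (by rw [hk', pow_one]) (mem_centralizer_singleton_iff.1 t.2)
      · exact absurd hk' (by simpa using hcon (t : H))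
      · exfalso
        refine hcon ((t : H) ^ 2) ?_
        rw [orderOf_pow_of_dvd (by norm_num) (by rw [hk']; norm_num), hk']
        norm_num
    have h2 : (T : Set ↥(centralizer ({s} : Set H))) ⊆
        {1, ⟨s, mem_centralizer_singleton_iff.2 rfl⟩} := by
      intro t ht
      rcases h1 t ht with h | h
      · exact Or.inl h
      · exact Or.inr (Subtype.ext h)
    have h3 := Set.ncard_le_ncard h2 (Set.toFinite _)
    have h5 : (T : Set ↥(centralizer ({s} : Set H))).ncard = 2 ^ 3 := hT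
    have h6 := Set.ncard_insert_le (1 : ↥(centralizer ({s} : Set H))) {⟨s, mem_centralizer_singleton_iff.2 rfl⟩}
    rw [Set.ncard_singleton] at h6
    omega
  have h3' : ∃ g : H, orderOf g = 3 ∧ g * s = s * g := by
    obtain ⟨g, hg⟩ := exists_prime_orderOf_dvd_card' (G := ↥(centralizer ({s} : Set H))) 3
      (Dvd.dvd.trans (by norm_num) L.c120)
    exact ⟨g, by rw [Subgroup.orderOf_coe, hg], mem_centralizer_singleton_iff.1 g.2⟩
  obtain ⟨g, hg, hgs⟩ := h3'
  intro m hm
  simp only [Finset.mem_insert, Finset.mem_singleton] at hm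
  rcases hm with rfl | rfl | rfl | rfl | rfl
  · exact ⟨1, orderOf_one⟩
  · exact ⟨s, L.os⟩
  · exact ⟨g, hg⟩
  · exact h4
  · refine ⟨g * s, ?_⟩
    have hc : Commute g s := hgs
    rw [hc.orderOf_mul_eq_mul_orderOf_of_coprime (by rw [hg, L.os]; norm_num), hg, L.os]

theorem weight_five : ∃ z : Spor.Th, El 5 z ∧ WtGe.{u, 0} 5 z 5 := by
  obtain ⟨_, x, y, z, a, D⟩ := exists_dat
  have h5F : Fact (Nat.Prime 5) := ⟨by norm_num⟩
  have hcard := card_th
  obtain ⟨N, hN⟩ := D.loc.exists_LC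
  refine ⟨z, ⟨⟨1, by rw [D.oz, pow_one]⟩, ?_⟩, ?_⟩
  · intro h
    have := D.oz
    rw [h, orderOf_one] at this
    norm_num at this
  have hPn := hN.P_normal
  have key := H80.K6.epsGe_constrained.{u, 0} (p := 5) (x := z)
    (PP (H := ↥(centralizer ({z} : Set Spor.Th))) ⟨x, mem_centralizer_singleton_iff.2 D.xz⟩
      ⟨y, mem_centralizer_singleton_iff.2 D.yz⟩ ⟨z, mem_centralizer_singleton_iff.2 rfl⟩) D.loc.isP ?_
    ({1, 2, 3, 4, 6} : Finset ℕ) ?_
  · exact H80.K6.EpsGe.wtGe key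
  · -- the centralizer of `P`
    set P := PP (H := ↥(centralizer ({z} : Set Spor.Th))) ⟨x, mem_centralizer_singleton_iff.2 D.xz⟩
      ⟨y, mem_centralizer_singleton_iff.2 D.yz⟩ ⟨z, mem_centralizer_singleton_iff.2 rfl⟩ with hP
    have h1 : IsPGroup 5 ↥(centralizer (P : Set ↥(centralizer ({z} : Set Spor.Th)))) := by
      by_contra hcon
      obtain ⟨r, hr, hr5, hrd⟩ : ∃ r : ℕ, r.Prime ∧ r ≠ 5 ∧
          r ∣ Nat.card ↥(centralizer (P : Set ↥(centralizer ({z} : Set Spor.Th)))) := by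
        by_contra hcon'
        push Not at hcon'
        apply hcon
        rw [IsPGroup.iff_card]
        refine ⟨_, Nat.eq_prime_pow_of_unique_prime_dvd Nat.card_pos.ne' fun {r} hr hrd => ?_⟩
        by_contra hne
        exact hcon' r hr hne hrd
      have : Fact r.Prime := ⟨hr⟩
      obtain ⟨g, hg⟩ := exists_prime_orderOf_dvd_card' r hrd
      have hgo : orderOf ((g : ↥(centralizer ({z} : Set Spor.Th))) : Spor.Th) = r := by
        rw [Subgroup.orderOf_coe, Subgroup.orderOf_coe, hg]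
      have hd : 125 ∣ Nat.card (centralizer ({((g : ↥(centralizer ({z} : Set Spor.Th))) : Spor.Th)} : Set Spor.Th)) := by
        rw [← D.card_P]
        refine card_dvd_of_le fun u hu => ?_
        rw [← D.map_PP] at hu
        obtain ⟨v, hv, rfl⟩ := hu
        rw [mem_centralizer_singleton_iff]
        exact congrArg Subtype.val (mem_centralizer_iff.1 g.2 v hv)
      have hrG : r ∣ 90745943887872000 := by
        rw [← hcard, ← hgo]
        exact orderOf_dvd_natCard _
      rcases prime_cases hr hrG with rfl | rfl | rfl | rfl | rfl | rfl | rfl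
      · rw [MonsterX.ThOneClass.card_centralizer hgo] at hd
        norm_num at hd
      · exact not_25 hgo (Dvd.dvd.trans (by norm_num) hd)
      · exact hr5 rfl
      · rw [card_seven hgo] at hd
        norm_num at hd
      · exact not_dvd_five (by norm_num) (by norm_num) hgo (Dvd.dvd.trans (by norm_num) hd)
      · rw [card_nineteen hgo] at hd
        norm_num at hd
      · rw [card_thirtyone hgo] at hd
        norm_num at hd
    refine D.loc.le_P h1 ?_
    exact (centralizer_le_normalizer _)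
  · intro m hm
    obtain ⟨g, hg⟩ := exists_orders D.loc m hm
    refine ⟨(by decide : ∀ m ∈ ({1, 2, 3, 4, 6} : Finset ℕ), ¬ 5 ∣ m) m hm, g, mem_centralizer_singleton_iff.1 g.2, ?_⟩
    rw [Subgroup.orderOf_coe, hg]

/-- **`Th`, `p = 5`.** -/
theorem krow_th_five' : KRow.{u, 0} 5 Spor.Th := by
  have := fin_th
  have h5F : Fact (Nat.Prime 5) := ⟨by norm_num⟩
  have hs : IsSimpleGroup Spor.Th := S1700.result.1
  have hcard := card_th
  obtain ⟨z, hz, hw⟩ := weight_five.{u}
  refine KRow.of_weights (not_compl_of_simple ?_ (by rw [hcard]; norm_num)) {z} ?_ ?_ (fun _ => 5) ?_ ?_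
  · by_contra hcon
    push Not at hcon
    let _ : CommGroup Spor.Th := { (inferInstance : Group Spor.Th) with mul_comm := hcon }
    have h1 := IsSimpleGroup.prime_card (α := Spor.Th)
    rw [hcard] at h1
    norm_num at h1
  · intro t ht
    rw [Finset.mem_singleton] at ht
    rwa [ht]
  · intro t ht u hu _ _
    rw [Finset.mem_singleton] at ht hu
    rw [ht, hu]
  · intro t ht
    rw [Finset.mem_singleton] at ht
    rwa [ht]
  · simp

end Five

/-! ### `p = 3` -/

section Three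

open Cfsg.Agent.H491.PB.Th Cfsg.Agent.H502.TO Cfsg.Agent.H709.PB
open Cfsg.Agent.H777.Th3 Cfsg.Agent.H777.Th3.Dat

/-- `3 ^ 7` does not divide the order of the centralizer of an element of order 13 -/
theorem no_37 {z : Spor.Th} (hz : orderOf z = 13) : ¬ 3 ^ 7 ∣ Nat.card (centralizer ({z} : Set Spor.Th)) := by
  have := fin_th
  have h3F : Fact (Nat.Prime 3) := ⟨Nat.prime_three⟩
  have hcard := card_th
  intro h37
  obtain ⟨y, g, hy, hg⟩ := exists_thirteen
  have hrr : ¬ 13 ^ 2 ∣ Nat.card Spor.Th := by rw [hcard]; norm_num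
  rw [card_cent_eq (by norm_num) hrr hy hz] at h37
  obtain ⟨hN, -, -, -⟩ := sylow_eq (r := 13) (by norm_num) hrr hy hg ord6
  set Cy := centralizer ({y} : Set Spor.Th) with hC
  set N := normalizer ((zpowers y : Subgroup Spor.Th) : Set Spor.Th) with hNd
  have hCN : Cy ≤ N := by
    have h1 : centralizer ((zpowers y : Subgroup Spor.Th) : Set Spor.Th) = Cy := by
      rw [zpowers_eq_closure, centralizer_closure]
    rw [← h1]
    exact centralizer_le_normalizer _
  have h38 : 3 ^ 8 ∣ Nat.card N := by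
    rw [hN, pow_succ]
    exact mul_dvd_mul h37 (by norm_num)
  obtain ⟨S', hS'⟩ := Sylow.exists_subgroup_card_pow_prime (G := N) 3 h38
  set S : Subgroup Spor.Th := S'.map N.subtype with hSd
  have hS : Nat.card S = 3 ^ 8 := by rw [hSd, card_map_of_injective (subtype_injective _), hS']
  have hSN : S ≤ N := map_subtype_le _
  have hSp : IsPGroup 3 S := IsPGroup.of_card hS
  -- `Cy` is normalized by `N`
  have hnorm : ∀ n ∈ N, ∀ c ∈ Cy, n * c * n⁻¹ ∈ Cy := by
    intro n hn c hc
    have hn' : n⁻¹ ∈ N := inv_mem hn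
    obtain ⟨k, hk⟩ : n⁻¹ * y * n⁻¹⁻¹ ∈ zpowers y := (mem_normalizer_iff.1 hn' y).1 (mem_zpowers y)
    have hk' : y ^ k = n⁻¹ * y * n := by
      rw [inv_inv] at hk
      exact hk
    rw [mem_centralizer_singleton_iff]
    have hcy : Commute c y := mem_centralizer_singleton_iff.1 hc
    have h1 : c * (n⁻¹ * y * n) = (n⁻¹ * y * n) * c := by
      rw [← hk']
      exact hcy.zpow_right k
    calc n * c * n⁻¹ * y = n * (c * (n⁻¹ * y * n)) * n⁻¹ := by group
      _ = n * ((n⁻¹ * y * n) * c) * n⁻¹ := by rw [h1]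
      _ = y * (n * c * n⁻¹) := by group
  -- a nontrivial element of `Cy` commuting with `S`
  obtain ⟨x, hxC, hxS, hx1, hxc⟩ : ∃ x, x ∈ Cy ∧ x ∈ S ∧ x ≠ 1 ∧ ∀ t ∈ S, x * t = t * x := by
    let _ : MulAction S ↥(S ⊓ Cy) :=
      { smul := fun t r => ⟨(t : Spor.Th) * r * (t : Spor.Th)⁻¹,
          S.mul_mem (S.mul_mem t.2 r.2.1) (S.inv_mem t.2), hnorm t (hSN t.2) r r.2.2⟩
        one_smul := fun r => Subtype.ext (by
          show ((1 : S) : Spor.Th) * r * ((1 : S) : Spor.Th)⁻¹ = r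
          simp)
        mul_smul := fun t t' r => Subtype.ext (by
          show ((t * t' : S) : Spor.Th) * r * ((t * t' : S) : Spor.Th)⁻¹ =
            (t : Spor.Th) * ((t' : Spor.Th) * r * (t' : Spor.Th)⁻¹) * (t : Spor.Th)⁻¹
          push_cast
          group) }
    have h1 := hSp.card_modEq_card_fixedPoints ↥(S ⊓ Cy)
    -- the order of `S ⊓ Cy`
    have h2 : 3 ∣ Nat.card ↥(S ⊓ Cy) := by
      have h3 : IsPGroup 3 ↥(S ⊓ Cy) := hSp.to_le inf_le_left
      obtain ⟨n, hn⟩ := IsPGroup.iff_card.1 h3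
      rcases Nat.eq_zero_or_pos n with rfl | hn0
      · exfalso
        rw [pow_zero] at hn
        have h4 : S ⊓ Cy = ⊥ := Subgroup.card_eq_one.1 hn
        have h5 : Nat.card S ≤ Cy.relIndex N := by
          have h6 : Cy.relIndex S ≤ Cy.relIndex N := Subgroup.relIndex_le_of_le_right hSN (by
            exact (Cy.subgroupOf N).index_ne_zero_of_finite)
          have h7 : Cy.relIndex S = Nat.card S := by
            rw [← Subgroup.inf_relIndex_right, inf_comm, h4, Subgroup.relIndex_bot_left]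
          rw [← h7]
          exact h6
        have h8 : Cy.relIndex N = 12 := by
          have h9 := Subgroup.card_mul_index (Cy.subgroupOf N)
          rw [Nat.card_congr (Subgroup.subgroupOfEquivOfLe hCN).toEquiv, hN] at h9
          exact Nat.eq_of_mul_eq_mul_left Nat.card_pos h9
        rw [hS, h8] at h5
        norm_num at h5
      · rw [hn]
        exact dvd_pow_self 3 hn0.ne'
    have h3 : 3 ∣ Nat.card (MulAction.fixedPoints S ↥(S ⊓ Cy)) :=
      (Nat.modEq_zero_iff_dvd).1 (h1.symm.trans ((Nat.modEq_zero_iff_dvd).2 h2))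
    have h4 : (1 : ↥(S ⊓ Cy)) ∈ MulAction.fixedPoints S ↥(S ⊓ Cy) := by
      intro t
      apply Subtype.ext
      show (t : Spor.Th) * 1 * (t : Spor.Th)⁻¹ = 1
      rw [mul_one, mul_inv_cancel]
    have h5 : 1 < Nat.card (MulAction.fixedPoints S ↥(S ⊓ Cy)) := by
      have h6 : 0 < Nat.card (MulAction.fixedPoints S ↥(S ⊓ Cy)) := by
        have : Nonempty (MulAction.fixedPoints S ↥(S ⊓ Cy)) := ⟨⟨1, h4⟩⟩
        exact Nat.card_pos
      have h7 := Nat.le_of_dvd h6 h3
      omega
    obtain ⟨⟨r, hr⟩, hr1⟩ := @exists_ne _ (Finite.one_lt_card_iff_nontrivial.1 h5) (⟨1, h4⟩ :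
      MulAction.fixedPoints S ↥(S ⊓ Cy))
    refine ⟨r, r.2.2, r.2.1, ?_, ?_⟩
    · intro h6
      apply hr1
      apply Subtype.ext
      exact Subtype.ext h6
    · intro t ht
      have h6 := congrArg Subtype.val (hr ⟨t, ht⟩)
      have h7 : t * (r : Spor.Th) * t⁻¹ = r := h6
      calc (r : Spor.Th) * t = (t * r * t⁻¹) * t := by rw [h7]
        _ = t * r := by group
  obtain ⟨c, hc⟩ := exists_conj hSp
  obtain ⟨e, he, he2⟩ := form_of_large th_u1_ne (x := c * x * c⁻¹) (hc x hxS)
    (R := S.map (MulAut.conj c).toMonoidHom) (by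
      rintro _ ⟨r, hr, rfl⟩
      exact hc r hr) (by
      rintro _ ⟨r, hr, rfl⟩
      show c * x * c⁻¹ * (c * r * c⁻¹) = c * r * c⁻¹ * (c * x * c⁻¹)
      calc c * x * c⁻¹ * (c * r * c⁻¹) = c * (x * r) * c⁻¹ := by group
        _ = c * (r * x) * c⁻¹ := by rw [hxc r hr]
        _ = _ := by group) (by rw [card_map_of_injective (MulAut.conj c).injective, hS])
  have he0 : e ≠ 0 := by
    rintro rfl
    rw [uu_zero, conj_eq_one_iff] at he
    exact hx1 he
  have hxy : x * y = y * x := mem_centralizer_singleton_iff.1 hxC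
  have h1 : 13 ∣ Nat.card (centralizer ({thDat.uu e} : Set Spor.Th)) := by
    rw [← he, card_cent_conj, ← hy]
    exact dvd_of_comm hxy.symm
  have key : ∀ {z : Spor.Th}, IsConj z (thDat.uu e) → 13 ∣ Nat.card (centralizer ({z} : Set Spor.Th)) := by
    intro z hz
    obtain ⟨c, hc⟩ := isConj_iff.1 hz
    rwa [← hc, card_cent_conj] at h1
  have h2 : 13 ∣ Nat.card (centralizer ({thDat.u1} : Set Spor.Th)) := by
    rcases isConj_u1 he0 he2 with h | h
    · exact key h
    · have h3 := key h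
      rwa [cent_eq_of_zpowers (zpowers_inv (g := thDat.u1))] at h3
  rw [u1_eq] at h2
  exact not_dvd_u1 (Or.inl rfl) h2

theorem nb_three : NB 3 4 Spor.Th := by
  have := fin_th
  have : Fact (Nat.Prime 3) := ⟨by norm_num⟩
  refine NB.of_orders (a := 10) (by rw [card_th]; norm_num) fun y hy hne => cent_dvd hy ?_ ?_ ?_ ?_ ?_ ?_ ?_
  · intro _; norm_num
  · intro h; exact absurd h hne
  · intro _; norm_num
  · intro _; norm_num
  · intro h; exact no_37 h
  · intro _; norm_num
  · intro _; norm_num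

/-- **`Th`, `p = 3`.** -/
theorem krow_th_three' : KRow.{u, 0} 3 Spor.Th := by
  have := fin_th
  have hcard := card_th
  refine H80.K6.KRow.of_height (by norm_num) (by rw [hcard]; norm_num) fun M hM => ?_
  obtain ⟨χ, hχ⟩ := H492.FactsTh.exists_51684750
  have h2 : charDegree (χ : Spor.Th → ℂ) = 51684750 := Cfsg.Agent.H670.PSing.charDegree_eq_of hχ
  refine ⟨χ, ?_, ?_⟩
  · by_contra hcon
    have h3 := nb_three M hM χ hcon
    rw [h2] at h3
    revert h3
    norm_num
  · rw [h2]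
    norm_num

end Three

/-! ### The rows -/

theorem krow_th_three {S : Type v} [Group S] (h : Spor.IsoTh S) : KRow.{u, v} 3 S := by
  obtain ⟨e⟩ := h
  exact KRow.congr e.symm krow_th_three'

theorem krow_th_five {S : Type v} [Group S] (h : Spor.IsoTh S) : KRow.{u, v} 5 S := by
  obtain ⟨e⟩ := h
  exact KRow.congr e.symm krow_th_five'

theorem krow_th_seven {S : Type v} [Group S] (h : Spor.IsoTh S) : KRow.{u, v} 7 S := by
  obtain ⟨e⟩ := h
  exact KRow.congr e.symm krow_th_seven'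

end Cfsg.Agent.H804.K6.Th
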